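import Cfsg.Agent.Lib.ReeReal.Local
import Cfsg.Agent.Lib.ReeOrder.Main
import Cfsg.Agent.Lib.ReeOrder.Local.GoodThree
import Cfsg.Agent.Lib.ReeOrder.Local.AllGood
import Cfsg.Agent.Lib.ReeOrder.TwoTrans.Main

/-!
The configurations of the order theorem have the local data of a group of Ree order.
-/

set_option autoImplicit false
set_option linter.unusedSectionVars false
set_option linter.style.haveILetI false
set_option linter.deprecated false

namespace CfsgLib.ReeOrder.Conf

open Cfsg CfsgLib.ReeType Subgroup MulAction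

universe u

variable {G : Type u} [Group G] [Fintype G]
variable {F : Type} [Field F] [Fintype F] [DecidableEq F]

/-- Trivial intersection and the number of Sylow 3-subgroups. -/
theorem sylow_three_ti {t : G} (K : Conf t F) {m : ℕ} (hm : 1 ≤ m)
    (hF : Fintype.card F = 3 ^ (2 * m + 1))
    (hG : Nat.card G = Fintype.card F ^ 3 * (Fintype.card F ^ 3 + 1) * (Fintype.card F - 1)) :
    (∀ P Q : Sylow 3 G, ∀ x : G, x ≠ 1 → x ∈ P → x ∈ Q → P = Q) ∧
      ∀ P : Sylow 3 G, Nat.card (normalizer ((P : Subgroup G) : Set G)) =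
        Fintype.card F ^ 3 * (Fintype.card F - 1) := by
  classical
  haveI : Fact (Nat.Prime 3) := ⟨Nat.prime_three⟩
  haveI : CharP F 3 := charP_of_card_eq_prime_pow hF
  let D : TwoTrans.Data G F := ⟨t, K.cent, m, hm, hF, hG⟩
  obtain ⟨P, hUP, hHP⟩ := D.exists_normalized
  obtain ⟨-, h27, -⟩ := D.q_facts
  set q := Fintype.card F with hq
  have hP := D.card_sylow_three P
  rw [← hq] at hP
  set N := normalizer ((P : Subgroup G) : Set G) with hN
  have hinf := D.inf_conj_eq_bot (fun v hv => K.isConj_involution hv) P hUP (hHP D.t_mem_H)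
  have hm1 : 1 < Nat.card (P : Subgroup G) := by
    rw [hP]; exact Nat.one_lt_pow (by norm_num) (by omega)
  have hpos : 0 < q ^ 3 * (q - 1) := Nat.mul_pos (pow_pos (by omega) 3) (by omega)
  have hcard : q ^ 3 * (q - 1) ≤ Nat.card N := by
    have hdisj : (P : Subgroup G) ⊓ D.H = ⊥ := Subgroup.inf_eq_bot_of_coprime (by
      rw [hP, D.card_H, ← hq]
      refine Nat.Coprime.pow_left 3 ?_
      rw [Nat.coprime_comm]
      exact (Nat.coprime_self_sub_left (show 1 ≤ q by omega)).2 (Nat.coprime_one_left _))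
    refine le_trans (le_of_eq ?_) (Subgroup.card_le_of_le (sup_le hHP Subgroup.le_normalizer))
    rw [CfsgLib.Coprime.card_sup_of_disjoint hHP hdisj, hP, D.card_H, mul_comm]
  have hn : Nat.card (Sylow 3 G) ≤ Nat.card (P : Subgroup G) + 1 := by
    rw [P.card_eq_index_normalizer, hP]
    by_contra hlt
    push Not at hlt
    have h := N.card_mul_index
    rw [hG] at h
    have h1 : q ^ 3 * (q - 1) * (q ^ 3 + 2) ≤ Nat.card N * N.index := Nat.mul_le_mul hcard hlt
    rw [h, show q ^ 3 * (q ^ 3 + 1) * (q - 1) = q ^ 3 * (q - 1) * (q ^ 3 + 1) by ring] at h1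
    have := Nat.le_of_mul_le_mul_left h1 hpos
    omega
  have htrans := TwoTrans.transitive_others P (D.w • P) hm1 hn hinf
  have hfix : ∀ c ∈ (P : Subgroup G), c • P = P := fun c hc =>
    Sylow.smul_eq_iff_mem_normalizer.2 (Subgroup.le_normalizer hc)
  have hmem : ∀ (g x : G) (R : Sylow 3 G), x ∈ R → g * x * g⁻¹ ∈ (g • R : Sylow 3 G) :=
    fun g x R hx => ⟨x, hx, rfl⟩
  have hP0 : ∀ (R : Sylow 3 G) (x : G), x ≠ 1 → x ∈ P → x ∈ R → R = P := by
    intro R x x1 hxP hxR
    by_contra hR
    obtain ⟨c, hc, rfl⟩ := htrans R hR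
    have h1 : c⁻¹ * x * c ∈ (P : Subgroup G) := mul_mem (mul_mem (inv_mem hc) hxP) hc
    have h2 : c⁻¹ * x * c ∈ ((D.w • P : Sylow 3 G) : Subgroup G) := by
      have h := hmem c⁻¹ x _ hxR
      rwa [inv_smul_smul, inv_inv] at h
    have := (Subgroup.eq_bot_iff_forall _).1 hinf _ (mem_inf.2 ⟨h1, h2⟩)
    exact x1 (by
      calc x = c * (c⁻¹ * x * c) * c⁻¹ := by group
        _ = 1 := by rw [this]; group)
  refine ⟨fun R S x x1 hxR hxS => ?_, fun R => ?_⟩
  · obtain ⟨g, hg⟩ := exists_smul_eq G R P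
    have h := hP0 (g • S) (g * x * g⁻¹) (fun e => x1 (conj_eq_one_iff.1 e))
      (hg ▸ hmem g x R hxR) (hmem g x S hxS)
    exact smul_left_cancel g (hg.trans h.symm)
  · have hlow : q ^ 3 + 1 ≤ Nat.card (Sylow 3 G) := by
      haveI : Fintype (Sylow 3 G) := Fintype.ofFinite _
      have hne : D.w • P ≠ P := fun e => by
        have hbot := hinf
        rw [e, inf_idem] at hbot
        rw [hbot, Subgroup.card_bot] at hm1
        omega
      let f : ↥(P : Subgroup G) → {S : Sylow 3 G // S ≠ P} := fun c =>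
        ⟨(c : G) • (D.w • P), fun e => hne (smul_left_cancel (c : G) (e.trans (hfix c c.2).symm))⟩
      have hinj : Function.Injective f := by
        intro a b hab
        have h1 : ((b : G)⁻¹ * a) • (D.w • P) = D.w • P := by
          rw [mul_smul, show (a : G) • (D.w • P) = (b : G) • (D.w • P) from congrArg Subtype.val hab,
            inv_smul_smul]
        have h2 : (b : G)⁻¹ * a ∈ (P : Subgroup G) ⊓ normalizer ((D.w • P : Sylow 3 G) : Set G) :=
          ⟨(P : Subgroup G).mul_mem ((P : Subgroup G).inv_mem b.2) a.2, Sylow.smul_eq_iff_mem_normalizer.1 h1⟩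
        rw [P.2.inf_normalizer_sylow (D.w • P), hinf, Subgroup.mem_bot] at h2
        exact Subtype.ext (inv_mul_eq_one.1 h2).symm
      have h := Nat.card_le_card_of_injective f hinj
      rw [hP, Nat.card_eq_fintype_card (α := {S : Sylow 3 G // S ≠ P}), Fintype.card_subtype_compl,
        Fintype.card_subtype_eq, ← Nat.card_eq_fintype_card] at h
      have : 0 < Nat.card (Sylow 3 G) := Nat.card_pos
      omega
    have hcount : Nat.card (Sylow 3 G) = q ^ 3 + 1 := le_antisymm (hn.trans (by rw [hP])) hlow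
    have h := (normalizer ((R : Subgroup G) : Set G)).card_mul_index
    rw [show (normalizer ((R : Subgroup G) : Set G)).index = q ^ 3 + 1 by
      rw [← hcount]; exact R.card_eq_index_normalizer.symm, hG] at h
    refine Nat.eq_of_mul_eq_mul_right (show 0 < q ^ 3 + 1 by positivity) ?_
    rw [h]; ring

/-- The local data of a group of Ree order. -/
theorem exists_reeLocal {t : G} (K : Conf t F) : ∃ m : ℕ, K.ReeLocal m := by
  have hg3 := K.goodThree K.threeFree
  have hall : K.NoUData → ∀ s, s.Prime → s ∣ oddTorus K.q → K.Good s :=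
    fun hU => K.allGood K.threeFree hg3 hU
  obtain ⟨m, hm, hF, hG⟩ := K.order_of_good hg3 hall
  rw [← hF] at hG
  obtain ⟨hti, hN⟩ := K.sylow_three_ti hm hF hG
  exact ⟨m, hm, hF, hG, K.torusCentralizers_of_good hg3 hall,
    K.aTypeData_of K.threeFree hg3 K.noBOfGood, hti, hN⟩

end CfsgLib.ReeOrder.Conf
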