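import Cfsg.Agent.Lib.ReeOrder.PslFacts
import Cfsg.Agent.Lib.Characters.Decomp

/-!
The numbers of involutions and of elements of the two kinds of tori of `PSL₂(q)`, `q ≡ 3 (mod 8)`.
-/

set_option autoImplicit false
set_option linter.unusedSectionVars false
set_option linter.style.haveILetI false

open Subgroup
open scoped Classical

namespace CfsgLib.ReeReal

universe u

/-- Elements of exponent `e` in conjugates of a subgroup holding their centralizers. -/
theorem card_tor_elements {L : Type u} [Group L] [Fintype L] (C : Subgroup L) (e : ℕ)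
    (hconj : ∀ g : L, g ≠ 1 → g ^ e = 1 → ∃ h : L, h * g * h⁻¹ ∈ C)
    (habel : ∀ g ∈ C, ∀ h ∈ C, Commute g h)
    (hcent : ∀ g ∈ C, g ≠ 1 → g ^ e = 1 → ∀ h, Commute h g → h ∈ C) :
    (Finset.univ.filter fun g : L => g ≠ 1 ∧ g ^ e = 1).card =
      (normalizer (C : Set L)).index *
        (Finset.univ.filter fun g : L => g ∈ C ∧ g ≠ 1 ∧ g ^ e = 1).card := by
  set N := normalizer (C : Set L) with hN
  rw [Subgroup.index, Nat.card_eq_fintype_card, ← Finset.card_univ, ← Finset.card_product]
  symm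
  refine Finset.card_bij (fun p _ => p.1.out * p.2 * p.1.out⁻¹) ?_ ?_ ?_
  · rintro ⟨c, g⟩ hp
    simp only [Finset.mem_product, Finset.mem_filter, Finset.mem_univ, true_and] at hp ⊢
    obtain ⟨-, h1, h2⟩ := hp
    exact ⟨fun h => h1 (conj_eq_one_iff.1 h), by rw [conj_pow, h2, mul_one, mul_inv_cancel]⟩
  · rintro ⟨c, g⟩ hp ⟨d, g'⟩ hp' h
    simp only [Finset.mem_product, Finset.mem_filter, Finset.mem_univ, true_and] at hp hp'
    obtain ⟨hg, g1, ge⟩ := hp
    obtain ⟨hg', g1', ge'⟩ := hp'
    replace h : c.out * g * c.out⁻¹ = d.out * g' * d.out⁻¹ := h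
    set x := d.out⁻¹ * c.out with hx
    have hxg : x * g * x⁻¹ = g' := by
      rw [hx, mul_inv_rev, inv_inv]
      calc d.out⁻¹ * c.out * g * (c.out⁻¹ * d.out) = d.out⁻¹ * (c.out * g * c.out⁻¹) * d.out := by group
        _ = g' := by rw [h]; group
    have hxN : x ∈ N := by
      rw [hN, mem_normalizer_iff]
      intro a
      constructor
      · intro ha
        refine hcent g' hg' g1' ge' _ ?_
        rw [← hxg]
        exact (habel a ha g hg).map (MulAut.conj x).toMonoidHom
      · intro ha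
        refine hcent g hg g1 ge _ ?_
        have h0 : Commute (x * a * x⁻¹) (x * g * x⁻¹) := habel _ ha _ (by rw [hxg]; exact hg')
        have h' := h0.map (MulAut.conj x⁻¹).toMonoidHom
        simpa [MulAut.conj_apply, mul_assoc] using h'
    have hcd : c = d := by
      rw [← QuotientGroup.out_eq' c, ← QuotientGroup.out_eq' d]
      exact (QuotientGroup.eq.2 hxN).symm
    subst hcd
    exact Prod.ext rfl (mul_left_cancel (mul_right_cancel h))
  · intro g hg
    simp only [Finset.mem_filter, Finset.mem_univ, true_and] at hg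
    obtain ⟨h, hh⟩ := hconj g hg.1 hg.2
    set c : L ⧸ N := ((h⁻¹ : L) : L ⧸ N) with hc
    have hn : c.out⁻¹ * h⁻¹ ∈ N := QuotientGroup.eq.1 (QuotientGroup.out_eq' c)
    have hm : c.out⁻¹ * g * c.out ∈ C := by
      have := (mem_normalizer_iff.1 hn _).1 hh
      rwa [show c.out⁻¹ * h⁻¹ * (h * g * h⁻¹) * (c.out⁻¹ * h⁻¹)⁻¹ = c.out⁻¹ * g * c.out by group]
        at this
    refine ⟨(c, c.out⁻¹ * g * c.out), ?_, by group⟩
    simp only [Finset.mem_product, Finset.mem_filter, Finset.mem_univ, true_and]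
    refine ⟨hm, fun e' => hg.1 ?_, ?_⟩
    · calc g = c.out * (c.out⁻¹ * g * c.out) * c.out⁻¹ := by group
        _ = 1 := by rw [e']; group
    · have := conj_pow (i := e) (a := c.out⁻¹) (b := g)
      rw [inv_inv, hg.2, mul_one, inv_mul_cancel] at this
      exact this

/-- The number of solutions of `g ^ e = 1` in a cyclic subgroup of order divisible by `e`. -/
theorem card_pow_eq_one {L : Type u} [Group L] [Fintype L] (C : Subgroup L) [IsCyclic C] {e : ℕ}
    (he : e ∣ Nat.card C) :
    (Finset.univ.filter fun g : L => g ∈ C ∧ g ≠ 1 ∧ g ^ e = 1).card + 1 = e := by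
  have hsplit : (Finset.univ.filter fun g : L => g ∈ C ∧ g ^ e = 1) =
      insert 1 (Finset.univ.filter fun g : L => g ∈ C ∧ g ≠ 1 ∧ g ^ e = 1) := by
    ext g
    simp only [Finset.mem_filter, Finset.mem_univ, true_and, Finset.mem_insert]
    constructor
    · rintro ⟨h1, h2⟩
      by_cases h : g = 1
      · exact Or.inl h
      · exact Or.inr ⟨h1, h, h2⟩
    · rintro (rfl | ⟨h1, -, h2⟩)
      · exact ⟨one_mem _, one_pow _⟩
      · exact ⟨h1, h2⟩
  have hcard : (Finset.univ.filter fun g : L => g ∈ C ∧ g ^ e = 1).card = e := by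
    let _ : CommGroup C := IsCyclic.commGroup
    have h := IsCyclic.card_powMonoidHom_ker (G := C) e
    rw [Nat.gcd_eq_right he] at h
    refine Eq.trans ?_ h
    rw [← Fintype.card_subtype, ← Nat.card_eq_fintype_card]
    refine Nat.card_congr ⟨fun g => ⟨⟨g.1, g.2.1⟩, MonoidHom.mem_ker.2 (Subtype.ext g.2.2)⟩,
      fun g => ⟨(g.1 : L), g.1.2, congrArg Subtype.val (MonoidHom.mem_ker.1 g.2)⟩, fun _ => rfl,
      fun _ => rfl⟩
  rw [hsplit, Finset.card_insert_of_notMem (by simp)] at hcard
  exact hcard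

end CfsgLib.ReeReal

namespace CfsgLib.ReeOrder.Psl

open CfsgLib.PSL2 CfsgLib.ReeReal

variable {F : Type*} [Field F] [Fintype F]

local notation "PSL" => Matrix.ProjectiveSpecialLinearGroup (Fin 2) F

/-- The normalizer of a torus is twice the torus. -/
theorem IsTorus.card_normalizer {C : Subgroup PSL} (hC : IsTorus C) (h2 : 2 < Nat.card C) :
    Nat.card (Subgroup.normalizer (C : Set PSL)) = 2 * Nat.card C := by
  haveI := hC.cyclic
  obtain ⟨w, hw, hwC, hwinv⟩ := hC.inverter
  have hww := involution_mul_self hw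
  have hwi : w⁻¹ = w := inv_eq_of_mul_eq_one_right hww
  obtain ⟨⟨g, hg⟩, hgen⟩ := IsCyclic.exists_generator (α := C)
  have hgg : g * g ≠ 1 := by
    intro e
    have ho : orderOf (⟨g, hg⟩ : C) = Nat.card C := orderOf_eq_card_of_forall_mem_zpowers hgen
    rw [Subgroup.orderOf_mk] at ho
    have := Nat.le_of_dvd two_pos (orderOf_dvd_of_pow_eq_one (show g ^ 2 = 1 by rw [pow_two, e]))
    omega
  have hwN : w ∈ Subgroup.normalizer (C : Set PSL) := by
    rw [Subgroup.mem_normalizer_iff]
    intro a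
    refine ⟨fun ha => by rw [hwinv a ha]; exact inv_mem ha, fun ha => ?_⟩
    have h := hwinv _ ha
    have : w * (w * a * w⁻¹) * w⁻¹ = a := by
      rw [hwi, show w * (w * a * w) * w = w * w * a * (w * w) by group, hww, one_mul, mul_one]
    rw [this] at h
    rw [h]
    exact inv_mem ha
  have hset : (Subgroup.normalizer (C : Set PSL) : Set PSL) = (C : Set PSL) ∪ (fun a => w * a) '' (C : Set PSL) := by
    refine Set.Subset.antisymm (fun n hn => ?_) ?_
    · by_cases hnC : n ∈ C
      · exact Or.inl hnC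
      refine Or.inr ⟨w * n, ?_, by simp only; rw [← mul_assoc, hww, one_mul]⟩
      have hn' : ∀ c ∈ C, n * c * n⁻¹ ∈ C := fun c hc => (Subgroup.mem_normalizer_iff.1 hn c).1 hc
      have hn2 := (hC.normalizer n hn' h2).resolve_left hnC
      have hng : ∀ c ∈ C, n * g * c * (n * g)⁻¹ ∈ C := fun c hc => by
        have e : n * g * c * (n * g)⁻¹ = n * (g * c * g⁻¹) * n⁻¹ := by group
        rw [e]
        exact hn' _ (mul_mem (mul_mem hg hc) (inv_mem hg))
      have hng2 := (hC.normalizer (n * g) hng h2).resolve_left fun h =>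
        hnC (by simpa using mul_mem h (inv_mem hg))
      have hinv : n * g * n⁻¹ = g⁻¹ := by
        rw [inv_eq_of_mul_eq_one_right hn2]
        exact eq_inv_of_mul_eq_one_left (by rw [← hng2]; group)
      refine hC.cent g hg hgg _ ?_
      show w * n * g = g * (w * n)
      have e1 : w * (n * g * n⁻¹) * w⁻¹ = g := by
        rw [hinv, hwinv _ (inv_mem hg), inv_inv]
      calc w * n * g = w * (n * g * n⁻¹) * w⁻¹ * (w * n) := by group
        _ = g * (w * n) := by rw [e1]
    · rintro x (hx | ⟨a, ha, rfl⟩)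
      · exact Subgroup.le_normalizer hx
      · exact mul_mem hwN (Subgroup.le_normalizer ha)
  rw [← SetLike.coe_sort_coe, Nat.card_coe_set_eq, hset, Set.ncard_union_eq ?_ (Set.toFinite _) (Set.toFinite _),
    Set.ncard_image_of_injective _ (mul_right_injective w), ← Nat.card_coe_set_eq, two_mul]
  · rfl
  · rw [Set.disjoint_left]
    rintro _ hx ⟨a, ha, rfl⟩
    exact hwC (by simpa using mul_mem hx (inv_mem ha))

variable (h8 : Fintype.card F % 8 = 3) (hq : 11 ≤ Fintype.card F)
include h8 hq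

theorem q_arith : 2 * oddTorus (Fintype.card F) + 1 = Fintype.card F ∧
    4 * coTorus (Fintype.card F) = Fintype.card F + 1 := by
  rcases sq_cases (q := Fintype.card F) (Or.inl h8) with ⟨-, -, h1, h2⟩ | ⟨h, -, -, -⟩
  · exact ⟨h1, h2⟩
  · omega

/-- The number of involutions. -/
theorem card_involutions : (Finset.univ.filter fun i : PSL => orderOf i = 2).card =
    Fintype.card F * oddTorus (Fintype.card F) := by
  obtain ⟨hb, ha⟩ := q_arith h8 hq
  have ha3 := three_le_coTorus (q := Fintype.card F) (Or.inl h8) hq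
  haveI := Fact.mk Nat.prime_two
  obtain ⟨i, hi⟩ := exists_prime_orderOf_dvd_card' (G := PSL) 2 (by
    rw [card_psl_eq (Or.inl h8) hq]
    exact Dvd.dvd.mul_right (Dvd.dvd.mul_right (Dvd.dvd.mul_right (by norm_num) _) _) _)
  have h2 : (2 : F) ≠ 0 := two_ne_zero_of_odd (q_odd (Or.inl h8) hq)
  have hset : (Finset.univ.filter fun j : PSL => orderOf j = 2) = Finset.univ.filter fun j => IsConj i j := by
    ext j
    simp only [Finset.mem_filter, Finset.mem_univ, true_and]
    refine ⟨fun h => isConj_of_orderOf_two h2 hi h, fun h => ?_⟩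
    obtain ⟨c, rfl⟩ := isConj_iff.1 h
    exact (orderOf_injective (MulAut.conj c).toMonoidHom (MulEquiv.injective _) i).trans hi
  have hidx := (centralizer ({i} : Set PSL)).card_mul_index
  rw [card_centralizer_involution (q_odd (Or.inl h8) hq) hi, if_neg (by omega),
    card_psl_eq (Or.inl h8) hq, ← ha] at hidx
  rw [hset, ← Fintype.card_subtype, ← Nat.card_eq_fintype_card, CfsgLib.Characters.card_isConj_eq_index]
  refine Nat.eq_of_mul_eq_mul_left (show 0 < 4 * coTorus (Fintype.card F) by omega) ?_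
  rw [hidx]; ring

/-- The number of elements of the two kinds of tori. -/
theorem card_tor (c : ℕ) (hc : c = oddTorus (Fintype.card F) ∨ c = coTorus (Fintype.card F)) :
    2 * (Finset.univ.filter fun g : PSL => g ≠ 1 ∧ g ^ c = 1).card * c =
      4 * Fintype.card F * coTorus (Fintype.card F) * oddTorus (Fintype.card F) * (c - 1) /
        (if c = oddTorus (Fintype.card F) then 1 else 2) := by
  obtain ⟨p, _⟩ := CharP.exists F
  haveI : Fact p.Prime := ⟨CharP.char_is_prime F p⟩
  obtain ⟨hpb, hpa, -⟩ := coprime_p (Or.inl h8) p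
  have hb5 := five_le_oddTorus (q := Fintype.card F) (Or.inl h8) hq
  have ha3 := three_le_coTorus (q := Fintype.card F) (Or.inl h8) hq
  have hcop := coprime_oddTorus_coTorus (q := Fintype.card F) (Or.inl h8)
  have hne : oddTorus (Fintype.card F) ≠ coTorus (Fintype.card F) := fun e => by
    rw [e, Nat.coprime_self] at hcop
    omega
  have hodd : Odd c := by
    rcases hc with rfl | rfl
    · exact odd_oddTorus (Or.inl h8)
    · exact odd_coTorus (Or.inl h8)
  have hc1 : c ≠ 1 := by rcases hc with rfl | rfl <;> omega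
  set d := if c = oddTorus (Fintype.card F) then 1 else 2 with hd
  -- the torus of an element
  have htor : ∀ g : PSL, g ≠ 1 → g ^ c = 1 → ∃ C : Subgroup PSL, IsTorus C ∧ g ∈ C ∧
      Nat.card C = d * c ∧ g ^ p ≠ 1 ∧ g * g ≠ 1 := by
    intro g g1 gc
    have ho := orderOf_dvd_of_pow_eq_one gc
    have hg2 : g * g ≠ 1 := fun e => g1 (orderOf_eq_one_iff.1 (Nat.eq_one_of_dvd_coprimes
      (Nat.coprime_two_right.2 hodd) ho (orderOf_dvd_of_pow_eq_one (by rw [pow_two, e]))))
    have hgp : g ^ p ≠ 1 := fun e => g1 (orderOf_eq_one_iff.1 (Nat.eq_one_of_dvd_coprimes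
      (show Nat.Coprime p c by rcases hc with rfl | rfl <;> assumption)
      (orderOf_dvd_of_pow_eq_one e) ho))
    rcases hc with hc' | hc'
    · obtain ⟨C, hC, hgC, hcard, -⟩ := exists_torus_odd (Or.inl h8) hq g1 (hc' ▸ ho)
      exact ⟨C, hC, hgC, by rw [hd, if_pos hc', one_mul, hcard, hc'], hgp, hg2⟩
    · obtain ⟨C, hC, hgC, hcard, -⟩ := exists_torus_co (Or.inl h8) hq g1 (hc' ▸ ho)
      refine ⟨C, hC, hgC, ?_, hgp, hg2⟩
      rw [hd, if_neg (fun e => hne (e.symm.trans hc')), hcard, hc']
  obtain ⟨l, hl, hlc⟩ := Nat.exists_prime_and_dvd hc1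
  haveI := Fact.mk hl
  obtain ⟨g₀, hg₀⟩ := exists_prime_orderOf_dvd_card' (G := PSL) l (by
    rw [card_psl_eq (Or.inl h8) hq]
    rcases hc with rfl | rfl
    · exact Dvd.dvd.mul_left hlc _
    · exact Dvd.dvd.mul_right (Dvd.dvd.mul_left hlc _) _)
  have g₀1 : g₀ ≠ 1 := fun e => hl.ne_one (by rw [← hg₀, e, orderOf_one])
  obtain ⟨C, hC, hg₀C, hcard, hg₀p, hg₀2⟩ :=
    htor g₀ g₀1 (orderOf_dvd_iff_pow_eq_one.1 (hg₀ ▸ hlc))
  haveI := hC.cyclic
  have habel : ∀ g ∈ C, ∀ h ∈ C, Commute g h := fun g hg h hh =>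
    congrArg Subtype.val (mul_comm' (⟨g, hg⟩ : C) ⟨h, hh⟩)
  have hmain := card_tor_elements C c (fun g g1 gc => by
      obtain ⟨C', hC', hgC', hcard', hgp, hg2⟩ := htor g g1 gc
      obtain ⟨k, hk⟩ := exists_conj_torus p (q_odd (Or.inl h8) hq) hgp hg₀p hg2 hg₀2 hC' hgC' hC hg₀C
        (hcard'.trans hcard.symm)
      exact ⟨k, (hk g).1 hgC'⟩) habel
    (fun g hg g1 gc h hh => hC.cent g hg (by
      obtain ⟨-, -, -, -, -, hg2⟩ := htor g g1 gc
      exact hg2) h hh)
  have hS := card_pow_eq_one C (e := c) ⟨d, by rw [hcard, mul_comm]⟩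
  have hd0 : 0 < d := by rw [hd]; split_ifs <;> norm_num
  have hN : Nat.card (normalizer (C : Set PSL)) = 2 * (d * c) := by
    rw [hC.card_normalizer ?_, hcard]
    rw [hcard]
    have : c ≤ d * c := Nat.le_mul_of_pos_left _ hd0
    rcases hc with rfl | rfl <;> omega
  have hidx := (normalizer (C : Set PSL)).card_mul_index
  rw [hN, card_psl_eq (Or.inl h8) hq] at hidx
  have h0 : (Finset.univ.filter fun g : PSL => g ≠ 1 ∧ g ^ c = 1).card =
      (Subgroup.normalizer (C : Set PSL)).index * (c - 1) := by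
    rw [← Nat.eq_sub_of_add_eq hS]
    convert hmain
  rw [h0, ← hidx]
  refine (Nat.div_eq_of_eq_mul_left hd0 ?_).symm
  ring

/-- The number of elements of odd tori. -/
theorem card_tor_b : (Finset.univ.filter fun g : PSL => g ≠ 1 ∧ g ^ oddTorus (Fintype.card F) = 1).card =
    2 * Fintype.card F * coTorus (Fintype.card F) * (oddTorus (Fintype.card F) - 1) := by
  have h := card_tor h8 hq _ (Or.inl rfl)
  rw [if_pos rfl, Nat.div_one] at h
  have hb5 := five_le_oddTorus (q := Fintype.card F) (Or.inl h8) hq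
  refine Nat.eq_of_mul_eq_mul_left (show 0 < 2 * oddTorus (Fintype.card F) by omega) ?_
  calc _ = _ := by ring
    _ = _ := h
    _ = _ := by ring

/-- The number of elements of the other tori. -/
theorem card_tor_a : (Finset.univ.filter fun g : PSL => g ≠ 1 ∧ g ^ coTorus (Fintype.card F) = 1).card =
    Fintype.card F * oddTorus (Fintype.card F) * (coTorus (Fintype.card F) - 1) := by
  have hb5 := five_le_oddTorus (q := Fintype.card F) (Or.inl h8) hq
  have hne : coTorus (Fintype.card F) ≠ oddTorus (Fintype.card F) := fun e => by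
    have h1 := coprime_oddTorus_coTorus (q := Fintype.card F) (Or.inl h8)
    rw [e, Nat.coprime_self] at h1
    omega
  have h := card_tor h8 hq _ (Or.inr rfl)
  rw [if_neg hne] at h
  have ha3 := three_le_coTorus (q := Fintype.card F) (Or.inl h8) hq
  refine Nat.eq_of_mul_eq_mul_left (show 0 < 2 * coTorus (Fintype.card F) by omega) ?_
  calc _ = _ := by ring
    _ = _ := h
    _ = _ := by
      refine Nat.div_eq_of_eq_mul_left two_pos ?_
      ring

end CfsgLib.ReeOrder.Psl
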