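import Cfsg.Agent.Lib.ReeReal.Local
import Cfsg.Agent.Lib.Walter.ReeAbelian.L2
import Cfsg.Agent.Lib.Characters.Decomp

/-!
Each involution of a group of Ree order inverts at most `(q + 1) (q² - 1)` elements of odd order divisible by three.
-/

set_option autoImplicit false
set_option linter.unusedSectionVars false
set_option linter.style.haveILetI false

namespace CfsgLib.ReeOrder.Conf.ReeLocal

open Cfsg CfsgLib.ReeType Subgroup CfsgLib.ReeOrder.Local
open scoped Classical

universe u

variable {G : Type u} [Group G] [Fintype G]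
variable {F : Type} [Field F] [Fintype F] [DecidableEq F]
variable {t : G} {K : Conf t F} {m : ℕ} (D : K.ReeLocal m)
include D

/-- A Sylow 3-subgroup whose normalizer holds `t` and `q (q - 1)` elements of its centralizer. -/
theorem exists_sylow_t : ∃ P : Sylow 3 G, t ∈ normalizer ((P : Subgroup G) : Set G) ∧
    Fintype.card F * (Fintype.card F - 1) ∣
      Nat.card ↥(normalizer ((P : Subgroup G) : Set G) ⊓ centralizer ({t} : Set G)) := by
  haveI := D.charP
  haveI := Fact.mk Nat.prime_three
  have h8 := D.q_eight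
  have hcop3 := Psl.coprime_p (F := F) K.q_mod 3
  set q := Fintype.card F with hq
  obtain ⟨T⟩ := Sylow.nonempty (p := 3) (G := Matrix.ProjectiveSpecialLinearGroup (Fin 2) F)
  have hT : Nat.card (T : Subgroup (Matrix.ProjectiveSpecialLinearGroup (Fin 2) F)) = q := by
    rw [T.card_eq_multiplicity, Psl.card_psl_eq K.q_mod K.q_ge, ← hq]
    have h43 : ¬ 3 ∣ 4 * (coTorus q * oddTorus q) := fun h => by
      rcases Nat.prime_three.dvd_mul.1 h with h | h
      · norm_num at h
      · rcases Nat.prime_three.dvd_mul.1 h with h | h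
        · exact absurd (Nat.eq_one_of_dvd_coprimes hcop3.2.1 dvd_rfl h) (by norm_num)
        · exact absurd (Nat.eq_one_of_dvd_coprimes hcop3.1 dvd_rfl h) (by norm_num)
    rw [show 4 * q * coTorus q * oddTorus q = q * (4 * (coTorus q * oddTorus q)) by ring,
      Nat.factorization_mul (by have := K.q_ge; omega) (fun e => h43 (by rw [e]; exact dvd_zero 3)), Finsupp.add_apply,
      Nat.factorization_eq_zero_of_not_dvd h43, add_zero, hq, D.card_F,
      Nat.prime_three.factorization_pow, Finsupp.single_eq_same]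
  haveI : Nontrivial (T : Subgroup (Matrix.ProjectiveSpecialLinearGroup (Fin 2) F)) :=
    Finite.one_lt_card_iff_nontrivial.1 (by rw [hT]; have := K.q_ge; omega)
  haveI := T.isPGroup'.center_nontrivial
  obtain ⟨⟨z, hz⟩, hzo⟩ := exists_prime_orderOf_dvd_card' (G := center (T : Subgroup (Matrix.ProjectiveSpecialLinearGroup (Fin 2) F))) 3 (by
    obtain ⟨n, hn⟩ := IsPGroup.iff_card.1 (T.isPGroup'.to_subgroup (center _))
    rw [hn]
    have := Finite.one_lt_card (α := center (T : Subgroup (Matrix.ProjectiveSpecialLinearGroup (Fin 2) F)))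
    rcases Nat.eq_zero_or_pos n with rfl | h
    · rw [pow_zero] at hn; omega
    · exact dvd_pow_self 3 h.ne')
  rw [Subgroup.orderOf_mk, ← Subgroup.orderOf_coe] at hzo
  set k : Matrix.ProjectiveSpecialLinearGroup (Fin 2) F := (z : Matrix.ProjectiveSpecialLinearGroup (Fin 2) F)
  have hTk : ∀ a ∈ T, Commute a k := fun a ha =>
    congrArg Subtype.val (mem_center_iff.1 hz ⟨a, ha⟩)
  obtain ⟨A, -, hA, hAk⟩ := CfsgLib.ReeAbelian.L2.exists_borel_torus hzo
  set y := K.cent.up k with hy
  have hyo : orderOf y = 3 := by rw [hy, orderOf_injective _ K.cent.up_injective, hzo]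
  have y1 : y ≠ 1 := fun e => by rw [e, orderOf_one] at hyo; omega
  obtain ⟨P, hP⟩ := (IsPGroup.of_card (n := 1)
    (show Nat.card (zpowers y) = 3 ^ 1 by rw [Nat.card_zpowers, hyo, pow_one])).exists_le_sylow
  have hyP : y ∈ P := hP (mem_zpowers y)
  set N := normalizer ((P : Subgroup G) : Set G) with hN
  have htN : t ∈ N := D.mem_normalizer_of_commute hyP y1 (K.mul_t_comm k).symm
  refine ⟨P, htN, ?_⟩
  have hTN : ∀ a ∈ T, K.cent.up a ∈ N ⊓ centralizer ({t} : Set G) := fun a ha =>
    mem_inf.2 ⟨D.mem_normalizer_of_commute hyP y1 ((hTk a ha).map K.cent.up),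
      mem_centralizer_singleton_iff.2 (K.mul_t_comm a).eq⟩
  have hAN : ∀ a ∈ A, K.cent.up a ∈ N ⊓ centralizer ({t} : Set G) := by
    intro a ha
    refine mem_inf.2 ⟨?_, mem_centralizer_singleton_iff.2 (K.mul_t_comm a).eq⟩
    set g := K.cent.up a with hg
    have hc : Commute (g * y * g⁻¹) y := by
      have := (hAk a ha k (Commute.refl k)).map K.cent.up
      simpa [hy, hg] using this
    -- a 3-element normalizing `P` lies in it
    have hyN : g * y * g⁻¹ ∈ N := D.mem_normalizer_of_commute hyP y1 hc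
    have hy3 : (g * y * g⁻¹) ^ 3 = 1 := by rw [conj_pow, ← hyo, pow_orderOf_eq_one]; group
    have hgy : g * y * g⁻¹ ∈ P := by
      have hp : IsPGroup 3 (zpowers (g * y * g⁻¹)) := IsPGroup.of_card (n := 1) (by
        rw [Nat.card_zpowers, pow_one, show g * y * g⁻¹ = MulAut.conj g y from rfl, MulEquiv.orderOf_eq, hyo])
      have hsup : IsPGroup 3 (zpowers (g * y * g⁻¹) ⊔ (P : Subgroup G) : Subgroup G) :=
        hp.to_sup_of_normal_right' P.isPGroup' (zpowers_le.2 hyN)
      exact (P.is_maximal' hsup le_sup_right).le (mem_sup_left (mem_zpowers _))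
    refine Sylow.smul_eq_iff_mem_normalizer.1 (D.ti (g • P) P (g * y * g⁻¹) ?_ ⟨y, hyP, rfl⟩ hgy)
    exact fun e => y1 (conj_eq_one_iff.1 e)
  have hq2 : 2 * oddTorus K.q + 1 = q := by rw [D.b_eq, hq, D.q_third]
  have hAcard : Nat.card A = oddTorus K.q := by omega
  have d1 : q ∣ Nat.card ↥(N ⊓ centralizer ({t} : Set G)) := by
    have h := card_dvd_of_le (H := (T : Subgroup _).map K.cent.up) (K := N ⊓ centralizer ({t} : Set G))
      (by rintro _ ⟨a, ha, rfl⟩; exact hTN a ha)
    rwa [card_map_of_injective K.cent.up_injective, hT] at h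
  have d2 : oddTorus K.q ∣ Nat.card ↥(N ⊓ centralizer ({t} : Set G)) := by
    have h := card_dvd_of_le (H := A.map K.cent.up) (K := N ⊓ centralizer ({t} : Set G))
      (by rintro _ ⟨a, ha, rfl⟩; exact hAN a ha)
    rwa [card_map_of_injective K.cent.up_injective, hAcard] at h
  have d3 : 2 ∣ Nat.card ↥(N ⊓ centralizer ({t} : Set G)) :=
    K.orderOf_t ▸ Subgroup.orderOf_dvd_natCard _ (mem_inf.2 ⟨htN, mem_centralizer_singleton_iff.2 rfl⟩)
  have c1 : Nat.Coprime q (oddTorus K.q) := by
    rw [hq, D.card_F]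
    exact hcop3.1.pow_left _
  have c2 : Nat.Coprime (q * oddTorus K.q) 2 := by
    rw [Nat.coprime_two_right]
    exact (Psl.q_odd K.q_mod K.q_ge).mul K.odd_b
  have := c2.mul_dvd_of_dvd_of_dvd (c1.mul_dvd_of_dvd_of_dvd d1 d2) d3
  rwa [show q * (q - 1) = q * oddTorus K.q * 2 by rw [mul_assoc]; congr 1; omega]

omit D in
/-- The conjugates of a Sylow normalizer. -/
theorem normalizer_conj (P : Sylow 3 G) (g u : G) :
    g * u * g⁻¹ ∈ normalizer (((g • P : Sylow 3 G) : Subgroup G) : Set G) ↔
      u ∈ normalizer ((P : Subgroup G) : Set G) := by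
  refine Sylow.smul_eq_iff_mem_normalizer.symm.trans
    (Iff.trans ?_ Sylow.smul_eq_iff_mem_normalizer)
  rw [← mul_smul, inv_mul_cancel_right, mul_smul]
  exact smul_left_cancel_iff g

/-- A Sylow normalizer holds at most `q²` involutions. -/
theorem card_involutions_normalizer (P : Sylow 3 G) :
    (Finset.univ.filter fun u : G => orderOf u = 2 ∧ u ∈ normalizer ((P : Subgroup G) : Set G)).card ≤
      Fintype.card F ^ 2 := by
  haveI := Fact.mk Nat.prime_two
  haveI := Fact.mk Nat.prime_three
  obtain ⟨Q, htQ, hdvd⟩ := D.exists_sylow_t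
  obtain ⟨g, rfl⟩ := MulAction.exists_smul_eq G Q P
  set N := normalizer ((Q : Subgroup G) : Set G) with hN
  set q := Fintype.card F with hq
  have hq' := D.q_third
  rw [← hq] at hq'
  have hpos : 0 < q ^ 2 := by have := K.q_ge; positivity
  -- the Sylow 2-subgroup of `N` has order two
  have hf : (Nat.card N).factorization 2 = 1 := by
    rw [hN, D.card_normalizer, ← hq, show q - 1 = 2 * oddTorus K.q by have := D.b_eq; omega,
      show q ^ 3 * (2 * oddTorus K.q) = 2 * (q ^ 3 * oddTorus K.q) by ring]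
    have hodd : Odd (q ^ 3 * oddTorus K.q) := ((Psl.q_odd K.q_mod K.q_ge).pow).mul K.odd_b
    rw [Nat.factorization_mul two_ne_zero (fun e => by rw [e] at hodd; simp at hodd), Finsupp.add_apply,
      Nat.prime_two.factorization_self, Nat.factorization_eq_zero_of_not_dvd
        (fun h => Nat.not_even_iff_odd.2 hodd (even_iff_two_dvd.2 h))]
  set S₀ : Sylow 2 N := Sylow.ofCard (zpowers ⟨t, htQ⟩) (by
    rw [Nat.card_zpowers, Subgroup.orderOf_mk, K.orderOf_t, hf, pow_one])
  -- all involutions of `N` are conjugate there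
  have hconj : ∀ u : N, orderOf u = 2 → IsConj (⟨t, htQ⟩ : N) u := by
    intro u hu
    obtain ⟨R, hR⟩ := (IsPGroup.of_card (n := 1)
      (show Nat.card (zpowers u) = 2 ^ 1 by rw [Nat.card_zpowers, hu, pow_one])).exists_le_sylow
    obtain ⟨n, hn⟩ := MulAction.exists_smul_eq N R S₀
    have hm : n * u * n⁻¹ ∈ S₀ := by rw [← hn]; exact ⟨u, hR (mem_zpowers u), rfl⟩
    have hm' : n * u * n⁻¹ ∈ zpowers (⟨t, htQ⟩ : N) := hm
    rcases CfsgLib.InvChar.KleinCentralizer.cases_of_mem_zpowers
      (by rw [Subgroup.orderOf_mk]; exact K.orderOf_t) hm' with e | e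
    · rw [conj_eq_one_iff.1 e, orderOf_one] at hu; omega
    · exact (isConj_iff.2 ⟨n, e⟩).symm
  have hcardQ : (Finset.univ.filter fun u : G => orderOf u = 2 ∧ u ∈ N).card ≤ q ^ 2 := by
    have h1 : (Finset.univ.filter fun u : G => orderOf u = 2 ∧ u ∈ N).card ≤
        Nat.card {u : N // IsConj (⟨t, htQ⟩ : N) u} := by
      rw [← Fintype.card_subtype, ← Nat.card_eq_fintype_card]
      exact Nat.card_le_card_of_injective
        (fun u => (⟨⟨u.1, u.2.2⟩, hconj _ (by rw [Subgroup.orderOf_mk]; exact u.2.1)⟩ :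
          {u : N // IsConj (⟨t, htQ⟩ : N) u}))
        (fun a b h => Subtype.ext (congrArg (fun z : {u : N // IsConj (⟨t, htQ⟩ : N) u} => ((z.1 : N) : G)) h))
    rw [CfsgLib.Characters.card_isConj_eq_index] at h1
    refine h1.trans (Nat.le_of_dvd hpos ?_)
    set C := centralizer ({(⟨t, htQ⟩ : N)} : Set N)
    have hle : Nat.card ↥(N ⊓ centralizer ({t} : Set G)) ∣ Nat.card C := by
      rw [Nat.card_congr (C.equivMapOfInjective N.subtype N.subtype_injective).toEquiv]
      refine card_dvd_of_le fun x hx => ?_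
      obtain ⟨hxN, hxt⟩ := mem_inf.1 hx
      exact ⟨⟨x, hxN⟩, mem_centralizer_singleton_iff.2 (Subtype.ext (mem_centralizer_singleton_iff.1 hxt)),
        rfl⟩
    have h2 := mul_dvd_mul_right (hdvd.trans hle) C.index
    rw [C.card_mul_index, (D.card_normalizer Q : Nat.card N = _), ← hq] at h2
    refine Nat.dvd_of_mul_dvd_mul_left (show 0 < q * (q - 1) by have := K.q_ge; exact Nat.mul_pos (by omega) (by omega)) ?_
    rwa [show q * (q - 1) * q ^ 2 = q ^ 3 * (q - 1) by ring]
  refine le_trans (le_of_eq ?_) hcardQ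
  refine Finset.card_equiv (MulAut.conj g⁻¹).toEquiv fun u => ?_
  simp only [Finset.mem_filter, Finset.mem_univ, true_and, MulEquiv.toEquiv_eq_coe, EquivLike.coe_coe]
  rw [MulEquiv.orderOf_eq, hN, ← normalizer_conj Q g, MulAut.conj_apply]
  rw [show g * (g⁻¹ * u * g⁻¹⁻¹) * g⁻¹ = u by group]

/-- An involution normalizes at most `q + 1` Sylow 3-subgroups. -/
theorem card_fixed_sylow {s : G} (hs : orderOf s = 2) :
    Nat.card {P : Sylow 3 G // s ∈ normalizer ((P : Subgroup G) : Set G)} ≤ Fintype.card F + 1 := by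
  haveI := Fact.mk Nat.prime_three
  set q := Fintype.card F with hq
  have hq' := D.q_third
  rw [← hq] at hq'
  letI : Fintype (Sylow 3 G) := Fintype.ofFinite _
  set I := Finset.univ.filter fun u : G => orderOf u = 2 with hI
  set M : G → ℕ := fun u => (Finset.univ.filter fun P : Sylow 3 G =>
    u ∈ normalizer ((P : Subgroup G) : Set G)).card with hM
  have hconst : ∀ u ∈ I, M u = M s := by
    intro u hu
    obtain ⟨h, hh⟩ := isConj_iff.1 ((K.isConj_involution hs).symm.trans
      (K.isConj_involution (Finset.mem_filter.1 hu).2))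
    refine (Finset.card_equiv (MulAction.toPerm h) fun P => ?_).symm
    simp only [Finset.mem_filter, Finset.mem_univ, true_and, MulAction.toPerm_apply]
    rw [← hh, normalizer_conj]
  have hsum : I.card * M s ≤ Fintype.card (Sylow 3 G) * q ^ 2 := by
    calc I.card * M s = ∑ u ∈ I, M u := by rw [Finset.sum_congr rfl hconst, Finset.sum_const, smul_eq_mul]
      _ = ∑ P : Sylow 3 G, (I.filter fun u => u ∈ normalizer ((P : Subgroup G) : Set G)).card := by
          simp only [hM, Finset.card_filter]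
          exact Finset.sum_comm
      _ ≤ ∑ _P : Sylow 3 G, q ^ 2 := Finset.sum_le_sum fun P _ => by
          rw [hI, Finset.filter_filter]
          exact D.card_involutions_normalizer P
      _ = _ := by rw [Finset.sum_const, Finset.card_univ, smul_eq_mul]
  have hn : Fintype.card (Sylow 3 G) = q ^ 3 + 1 := by
    obtain ⟨P⟩ := Sylow.nonempty (p := 3) (G := G)
    have h := (normalizer ((P : Subgroup G) : Set G)).card_mul_index
    have h0 : Fintype.card (Sylow 3 G) = (normalizer ((P : Subgroup G) : Set G)).index := by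
      rw [← Nat.card_eq_fintype_card]; exact P.card_eq_index_normalizer
    rw [← h0, D.card_normalizer, D.card_G, ← hq] at h
    refine Nat.eq_of_mul_eq_mul_left (show 0 < q ^ 3 * (q - 1) by
      have := K.q_ge; exact Nat.mul_pos (by positivity) (by omega)) ?_
    rw [h]; ring
  have hk9 := D.nine_le
  have h1 : 3 * third m ≤ 9 * third m ^ 2 + 1 := by nlinarith
  have hIc : I.card = q ^ 2 * (9 * third m ^ 2 + 1 - 3 * third m) := by
    have hset : I = Finset.univ.filter fun u => IsConj t u := by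
      ext u
      simp only [hI, Finset.mem_filter, Finset.mem_univ, true_and]
      refine ⟨fun h => K.isConj_involution h, fun h => ?_⟩
      obtain ⟨c, rfl⟩ := isConj_iff.1 h
      exact (orderOf_injective (MulAut.conj c).toMonoidHom (MulEquiv.injective _) t).trans K.orderOf_t
    rw [hset, ← Fintype.card_subtype, ← Nat.card_eq_fintype_card, CfsgLib.Characters.card_isConj_eq_index]
    refine Nat.eq_of_mul_eq_mul_left (Nat.card_pos (α := centralizer ({t} : Set G))) ?_
    rw [(centralizer ({t} : Set G)).card_mul_index, D.card_cent' K.orderOf_t, D.card_G', hq']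
    ring
  rw [Nat.card_eq_fintype_card, Fintype.card_subtype]
  have hΦ : q ^ 3 + 1 = (9 * third m ^ 2 + 1 - 3 * third m) * (q + 1) := by
    zify [h1]; rw [show (q : ℤ) = 3 * third m by exact_mod_cast hq']; ring
  have hIpos : 0 < I.card := by
    rw [hIc]
    have : 3 * third m < 9 * third m ^ 2 + 1 := by nlinarith
    exact Nat.mul_pos (by have := K.q_ge; positivity) (by omega)
  refine Nat.le_of_mul_le_mul_left ?_ hIpos
  refine le_trans (le_of_eq ?_) (hsum.trans (le_of_eq ?_))
  · rfl
  · rw [hn, hΦ, hIc]; ring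

/-- The bound on the inverted elements of order divisible by three. -/
theorem three_bound {s : G} (hs : orderOf s = 2) :
    (Finset.univ.filter fun g : G => s * g * s = g⁻¹ ∧ Odd (orderOf g) ∧ 3 ∣ orderOf g).card ≤
      (Fintype.card F + 1) * (Fintype.card F ^ 2 - 1) := by
  haveI := Fact.mk Nat.prime_three
  letI : Fintype (Sylow 3 G) := Fintype.ofFinite _
  have hss := Psl.involution_mul_self hs
  have hsi : s⁻¹ = s := inv_eq_of_mul_eq_one_right hss
  set X := Finset.univ.filter fun g : G => s * g * s = g⁻¹ ∧ Odd (orderOf g) ∧ 3 ∣ orderOf g with hX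
  set S := Finset.univ.filter fun P : Sylow 3 G => s ∈ normalizer ((P : Subgroup G) : Set G) with hS
  set Y : Sylow 3 G → Finset G := fun P => X.filter fun g => g ∈ normalizer ((P : Subgroup G) : Set G)
  have hcover : X ⊆ S.biUnion Y := by
    intro g hg
    obtain ⟨hsg, hgo, hg3⟩ := (Finset.mem_filter.1 hg).2
    set x := g ^ (orderOf g / 3) with hx
    have hxo : orderOf x = 3 := orderOf_pow_orderOf_div (orderOf_pos g).ne' hg3
    have x1 : x ≠ 1 := fun e => by rw [e, orderOf_one] at hxo; omega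
    obtain ⟨P, hP⟩ := (IsPGroup.of_card (n := 1)
      (show Nat.card (zpowers x) = 3 ^ 1 by rw [Nat.card_zpowers, hxo, pow_one])).exists_le_sylow
    have hxP : x ∈ P := hP (mem_zpowers x)
    refine Finset.mem_biUnion.2 ⟨P, Finset.mem_filter.2 ⟨Finset.mem_univ _, ?_⟩,
      Finset.mem_filter.2 ⟨hg, D.mem_normalizer_of_commute hxP x1 ((Commute.refl g).pow_right _)⟩⟩
    have hsx : s * x * s⁻¹ = x⁻¹ := by rw [hx, ← conj_pow, hsi, hsg, inv_pow]
    refine Sylow.smul_eq_iff_mem_normalizer.1 (D.ti (s • P) P x⁻¹ (inv_ne_one.2 x1)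
      ⟨x, hxP, hsx⟩ ((P : Subgroup G).inv_mem hxP))
  have hY : ∀ P ∈ S, (Y P).card ≤ Fintype.card F ^ 2 - 1 := by
    intro P hP
    have hsN := (Finset.mem_filter.1 hP).2
    set J := Finset.univ.filter fun u : G => orderOf u = 2 ∧ u ∈ normalizer ((P : Subgroup G) : Set G) with hJ
    have hsJ : s ∈ J := Finset.mem_filter.2 ⟨Finset.mem_univ _, hs, hsN⟩
    refine le_trans ?_ (Nat.sub_le_sub_right (D.card_involutions_normalizer P) 1)
    rw [← hJ, ← Finset.card_erase_of_mem hsJ]
    refine Finset.card_le_card_of_injOn (fun g => s * g) (fun g hg => ?_) fun a _ b _ h => mul_left_cancel h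
    obtain ⟨hgX, hgN⟩ := Finset.mem_filter.1 hg
    obtain ⟨hsg, hgo, hg3⟩ := (Finset.mem_filter.1 hgX).2
    refine Finset.mem_coe.2 (Finset.mem_erase.2 ⟨fun e => ?_,
      Finset.mem_filter.2 ⟨Finset.mem_univ _, ?_, mul_mem hsN hgN⟩⟩)
    · rw [show g = 1 from mul_eq_left.1 e, orderOf_one] at hg3
      norm_num at hg3
    · refine orderOf_eq_prime (by rw [pow_two, ← mul_assoc, hsg, inv_mul_cancel]) fun e => ?_
      have hg2 : g = s := by rw [← inv_eq_of_mul_eq_one_right e, hsi]
      rw [hg2, hs] at hgo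
      exact absurd hgo (by decide)
  calc X.card ≤ (S.biUnion Y).card := Finset.card_le_card hcover
    _ ≤ ∑ P ∈ S, (Y P).card := Finset.card_biUnion_le
    _ ≤ ∑ _P ∈ S, (Fintype.card F ^ 2 - 1) := Finset.sum_le_sum hY
    _ = S.card * (Fintype.card F ^ 2 - 1) := by rw [Finset.sum_const, smul_eq_mul]
    _ ≤ _ := by
      refine Nat.mul_le_mul_right _ ?_
      have := D.card_fixed_sylow hs
      rwa [Nat.card_eq_fintype_card, Fintype.card_subtype] at this

end CfsgLib.ReeOrder.Conf.ReeLocal
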