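import Cfsg.Agent.Lib.ReeReal.Count
import Cfsg.Agent.Lib.ReeReal.Psl
import Cfsg.Agent.Lib.ReeReal.ThreeCount

/-!
In a group of Ree order every prime divisor of `q² - q + 1` is the order of a real element.
-/

set_option autoImplicit false
set_option linter.unusedSectionVars false
set_option linter.style.haveILetI false

namespace CfsgLib.ReeOrder.Conf

open Cfsg CfsgLib.ReeType Subgroup CfsgLib.ReeOrder.Local CfsgLib.ReeReal
open scoped Classical Pointwise

universe u

variable {G : Type u} [Group G] [Fintype G]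
variable {F : Type} [Field F] [Fintype F] [DecidableEq F]
variable {t : G}

local notation "PSL2" => Matrix.ProjectiveSpecialLinearGroup (Fin 2) F

/-- The odd solutions of `y ^ c = 1` in the centralizer of `t` are those of the complement. -/
theorem card_tor_commute (K : Conf t F) {c : ℕ} (hc : Odd c) :
    (Finset.univ.filter fun y : G => IsTor c y ∧ Commute t y).card =
      (Finset.univ.filter fun k : PSL2 => k ≠ 1 ∧ k ^ c = 1).card := by
  symm
  refine Finset.card_bij (fun k _ => K.cent.up k) ?_ ?_ ?_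
  · intro k hk
    obtain ⟨k1, kc⟩ := (Finset.mem_filter.1 hk).2
    refine Finset.mem_filter.2 ⟨Finset.mem_univ _, ⟨fun e => k1 (K.up_inj (e.trans (map_one _).symm)), ?_⟩,
      (K.mul_t_comm k).symm⟩
    rw [← map_pow, kc, map_one]
  · intro a _ b _ h
    exact K.up_inj h
  · intro y hy
    obtain ⟨⟨y1, yc⟩, hty⟩ := (Finset.mem_filter.1 hy).2
    obtain ⟨k, rfl, -⟩ := K.odd_up hty.symm (hc.of_dvd_nat (orderOf_dvd_of_pow_eq_one yc))
    refine ⟨k, Finset.mem_filter.2 ⟨Finset.mem_univ _, fun e => y1 (by rw [e, map_one]), K.up_inj ?_⟩, rfl⟩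
    rw [map_pow, yc, map_one]

/-- The four group elements. -/
theorem Pair.sq_elem {K : Conf t F} {v w c r x : G} (P : K.Pair v w c r)
    (hx : x = 1 ∨ x = v ∨ x = w ∨ x = v * w) :
    x * x = 1 ∧ Commute x v ∧ Commute x w ∧ Commute x c ∧ Commute x r := by
  obtain ⟨hv2, hw2⟩ := P.isFour.sq
  have hvw := P.isFour.2.2.1
  rcases hx with rfl | rfl | rfl | rfl
  · exact ⟨one_mul 1, Commute.one_left _, Commute.one_left _, Commute.one_left _, Commute.one_left _⟩
  · exact ⟨hv2, Commute.refl _, hvw, P.cv.symm, P.rv.symm⟩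
  · exact ⟨hw2, hvw.symm, Commute.refl _, P.cw.symm, P.rw'.symm⟩
  · refine ⟨?_, (Commute.refl v).mul_left hvw.symm, hvw.mul_left (Commute.refl w), P.cv.symm.mul_left P.cw.symm,
      P.rv.symm.mul_left P.rw'.symm⟩
    rw [hvw.symm.mul_mul_mul_comm, hv2, hw2, one_mul]

namespace ReeLocal

variable {K : Conf t F} {m : ℕ} (D : K.ReeLocal m)
include D

theorem setting : Setting G (third m) where
  hk := D.nine_le
  hdiv p hp hd := (Nat.prime_dvd_prime_iff_eq hp Nat.prime_three).1 (hp.dvd_of_dvd_pow hd)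
  hcard := D.card_G'
  hcent _ hs := (D.card_cent' hs).dvd
  hfour g h := by
    haveI := Fact.mk Nat.prime_two
    have h4 : g ^ 2 ^ 2 = 1 := by rw [← h]; simp [pow_succ, mul_assoc]
    obtain ⟨j, -, hj⟩ := (Nat.dvd_prime_pow Nat.prime_two).1 (orderOf_dvd_of_pow_eq_one h4)
    obtain ⟨R, hR⟩ := (IsPGroup.of_card (n := j)
      (show Nat.card (zpowers g) = 2 ^ j by rw [Nat.card_zpowers, hj])).exists_le_sylow
    exact K.sylow_sq R (hR (mem_zpowers g))
  hclean x y hx _ hxy := by
    refine Nat.coprime_of_dvd fun p hp hpy hpn => ?_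
    obtain ⟨x1, hxc⟩ := hx
    set z := y ^ (orderOf y / p) with hz
    have hzo : orderOf z = p := orderOf_pow_orderOf_div (orderOf_pos y).ne' hpy
    have hxz : Commute x z := hxy.pow_right _
    have kill : ∀ {n : ℕ}, orderOf x ∣ n → (∀ r : ℕ, r.Prime → r ∣ n → r ∣ 3 * third m * (9 * third m ^ 2 - 1)) →
        False := by
      intro n hn hall
      obtain ⟨r, hr, hrd⟩ := Nat.exists_prime_and_dvd (fun e => x1 (orderOf_eq_one_iff.1 e))
      exact hr.one_lt.ne' (Nat.dvd_one.1 (hxc ▸ Nat.dvd_gcd hrd (hall r hr (hrd.trans hn))))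
    have hk9 := D.nine_le
    have h1 : 1 ≤ 9 * third m ^ 2 := by nlinarith
    have h9 : 3 * third m - 1 ∣ 9 * third m ^ 2 - 1 :=
      ⟨3 * third m + 1, by zify [h1, show 1 ≤ 3 * third m by omega]; ring⟩
    by_cases hp2 : p = 2
    · exact kill (D.cent_dvd (hzo.trans hp2) hxz) fun r _ h => h
    by_cases hp3 : p = 3
    · refine kill (D.three_cent (hzo.trans hp3) hxz) fun r hr h => ?_
      rcases hr.dvd_mul.1 h with h | h
      · exact (hr.dvd_of_dvd_pow h).mul_right _
      · exact (h.trans h9).mul_left _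
    have hp' : p.Coprime 6 := by
      rw [hp.coprime_iff_not_dvd]
      intro h
      have h' : p ∣ 2 * 3 := h
      rcases hp.dvd_mul.1 h' with h | h
      · exact hp2 ((Nat.prime_dvd_prime_iff_eq hp Nat.prime_two).1 h)
      · exact hp3 ((Nat.prime_dvd_prime_iff_eq hp Nat.prime_three).1 h)
    have hpab : p ∣ oddTorus K.q ∨ p ∣ coTorus K.q := by
      have h : p ∣ (2 * oddTorus K.q) * (4 * coTorus K.q) := by
        have he : (2 * oddTorus K.q) * (4 * coTorus K.q) = 9 * third m ^ 2 - 1 := by
          rw [D.a_eq, show 2 * oddTorus K.q = 3 * third m - 1 by have := D.b_eq; omega]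
          zify [h1, show 1 ≤ 3 * third m by omega]; ring
        rw [he]
        rcases hp.dvd_mul.1 hpn with h | h
        · exfalso
          have h' : p ∣ 3 ^ (2 * m + 1) := by rwa [pow_succ']
          exact hp3 ((Nat.prime_dvd_prime_iff_eq hp Nat.prime_three).1 (hp.dvd_of_dvd_pow h'))
        · exact h
      rcases hp.dvd_mul.1 h with h | h
      · exact Or.inl ((hp.dvd_mul.1 h).resolve_left fun h' => hp2 ((Nat.prime_dvd_prime_iff_eq hp Nat.prime_two).1 h'))
      · exact Or.inr ((hp.dvd_mul.1 h).resolve_left fun h' =>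
          hp2 ((Nat.prime_dvd_prime_iff_eq hp Nat.prime_two).1 (hp.dvd_of_dvd_pow (show p ∣ 2 ^ 2 from h'))))
    have z1 : z ≠ 1 := fun e => hp.ne_one (by rw [← hzo, e, orderOf_one])
    rcases hpab with h | h
    · obtain ⟨u, K', hB, hall⟩ := D.torB z1 (hzo.symm ▸ h)
      exact kill (D.cent_dvd K'.orderOf_t (hall x hxz).1) fun r _ h => h
    · obtain ⟨v, w, c, r, P, -, hall⟩ := D.torA z1 (hzo.symm ▸ h)
      obtain ⟨j, e, he, rfl⟩ := hall x hxz
      exact kill (D.cent_dvd P.isFour.1 ((P.cv.pow_left j).mul_left (P.sq_elem he).2.1)) fun r _ h => h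

theorem isTor_b {y : G} : IsTor (oddTorus K.q) y ↔ y ≠ 1 ∧ orderOf y ∣ oddTorus K.q :=
  and_congr_right fun _ => orderOf_dvd_iff_pow_eq_one.symm

theorem isTor_a {y : G} : IsTor (coTorus K.q) y ↔ y ≠ 1 ∧ orderOf y ∣ coTorus K.q :=
  and_congr_right fun _ => orderOf_dvd_iff_pow_eq_one.symm

theorem class_cases (u y s : G) (hu : orderOf u = 2) (hs : orderOf s = 2) (y1 : y ≠ 1)
    (hy : Odd (orderOf y)) (huy : Commute u y) (hus : Commute u s) (hinv : s * y * s = y⁻¹) :
    IsTor (oddTorus K.q) y ∨ IsTor (coTorus K.q) y := by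
  obtain ⟨K'⟩ := K.conf_of_involution hu
  haveI := D.charP
  haveI := Fact.mk Nat.prime_three
  rcases K'.odd_cases 3 huy.symm hy with h | h | h
  · exact absurd hinv (K'.uni_not_inverted 3 D.q_eight y1 huy.symm h hus.symm hs)
  · exact Or.inl (D.isTor_b.2 ⟨y1, h⟩)
  · exact Or.inr (D.isTor_a.2 ⟨y1, h⟩)

theorem cent_b (y g : G) (hy : IsTor (oddTorus K.q) y) (hg : Commute g y) :
    g ^ (2 * oddTorus K.q) = 1 := by
  obtain ⟨u, K', hB, hall⟩ := D.torB hy.1 (D.isTor_b.1 hy).2
  exact (hall g hg).2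

theorem cent_a (y g : G) (hy : IsTor (coTorus K.q) y) (hg : Commute g y) :
    g ^ (2 * coTorus K.q) = 1 := by
  obtain ⟨v, w, c, r, P, -, hall⟩ := D.torA hy.1 (D.isTor_a.1 hy).2
  obtain ⟨j, x, hx, rfl⟩ := hall g hg
  obtain ⟨hx2, -, -, hxc, -⟩ := P.sq_elem hx
  rw [(hxc.pow_right j).symm.mul_pow, ← pow_mul, show j * (2 * coTorus K.q) = orderOf c * (2 * j) by rw [P.ord_c]; ring,
    pow_mul, pow_orderOf_eq_one, one_pow, one_mul, pow_mul, pow_two, hx2, one_pow]

theorem one_b (y : G) (hy : IsTor (oddTorus K.q) y) :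
    (Finset.univ.filter fun s : G => orderOf s = 2 ∧ Commute s y).card = 1 := by
  obtain ⟨u, K', hB, hall⟩ := D.torB hy.1 (D.isTor_b.1 hy).2
  refine Finset.card_eq_one.2 ⟨u, Finset.eq_singleton_iff_unique_mem.2
    ⟨Finset.mem_filter.2 ⟨Finset.mem_univ _, K'.orderOf_t, hB.2.1.symm⟩, fun s hs => ?_⟩⟩
  obtain ⟨hs2, hsy⟩ := (Finset.mem_filter.1 hs).2
  by_contra hne
  have h := K'.four_odd_dvd (w := s) ⟨K'.orderOf_t, hs2, (hall s hsy).1.symm, fun e => hne e.symm⟩
    hB.2.1 hsy.symm (K'.odd_b.of_dvd_nat hB.2.2)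
  exact hB.1 (orderOf_eq_one_iff.1 (Nat.eq_one_of_dvd_coprimes (coprime_oddTorus_coTorus K.q_mod)
    (D.isTor_b.1 hy).2 h))

/-- The involutions at an element of the second torus. -/
theorem inv_a {y : G} (hy : IsTor (coTorus K.q) y) :
    ∃ v w : G, K.IsFour v w ∧ ∀ s : G, orderOf s = 2 → (Commute s y ↔ s = v ∨ s = w ∨ s = v * w) := by
  obtain ⟨v, w, c, r, P, hyc, hall⟩ := D.torA hy.1 (D.isTor_a.1 hy).2
  obtain ⟨hyv, hyw, -, -, -⟩ := P.commute_zpow hyc
  refine ⟨v, w, P.isFour, fun s hs => ⟨fun h => ?_, ?_⟩⟩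
  · obtain ⟨j, x, hx, rfl⟩ := hall s h
    obtain ⟨hx2, -, -, hxc, -⟩ := P.sq_elem hx
    have hcj : c ^ j = 1 := by
      refine Local.eq_one_of_odd (P.odd_c.of_dvd_nat (orderOf_pow_dvd j)) ?_
      have h2 := Psl.involution_mul_self hs
      rwa [(hxc.pow_right j).mul_mul_mul_comm, hx2, mul_one] at h2
    rw [hcj, one_mul] at hs ⊢
    rcases hx with e | e
    · rw [e, orderOf_one] at hs; omega
    · exact e
  · rintro (rfl | rfl | rfl)
    · exact hyv.symm
    · exact hyw.symm
    · exact (hyv.mul_right hyw).symm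

theorem three_a (y : G) (hy : IsTor (coTorus K.q) y) :
    (Finset.univ.filter fun s : G => orderOf s = 2 ∧ Commute s y).card = 3 := by
  obtain ⟨v, w, hf, hiff⟩ := D.inv_a hy
  obtain ⟨-, hk, -, hvk⟩ := K.isFour_mul hf
  have hwk : w ≠ v * w := fun e => by
    have := hf.1
    rw [right_eq_mul.1 e, orderOf_one] at this; omega
  rw [show (Finset.univ.filter fun s : G => orderOf s = 2 ∧ Commute s y) = {v, w, v * w} from ?_,
    Finset.card_eq_three.2 ⟨v, w, v * w, hf.2.2.2, hvk, hwk, rfl⟩]
  ext s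
  simp only [Finset.mem_filter, Finset.mem_univ, true_and, Finset.mem_insert, Finset.mem_singleton]
  refine ⟨fun h => (hiff s h.1).1 h.2, fun h => ?_⟩
  have hs : orderOf s = 2 := by rcases h with rfl | rfl | rfl; exacts [hf.1, hf.2.1, hk]
  exact ⟨hs, (hiff s hs).2 h⟩

theorem fix_a (y s t' : G) (hy : IsTor (coTorus K.q) y) (hs : orderOf s = 2) (hsy : s * y * s = y⁻¹)
    (ht' : orderOf t' = 2) (hty : Commute t' y) : Commute s t' := by
  obtain ⟨v, w, hf, hiff⟩ := D.inv_a hy
  have hss := Psl.involution_mul_self hs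
  have hsi : s⁻¹ = s := inv_eq_of_mul_eq_one_right hss
  set t'' := s * t' * s⁻¹ with ht''
  have ho : orderOf t'' = 2 := by
    rw [ht'', show s * t' * s⁻¹ = MulAut.conj s t' from rfl, MulEquiv.orderOf_eq, ht']
  have hc : Commute t'' y := by
    have h := (hty.inv_right).map (MulAut.conj s).toMonoidHom
    have e : MulAut.conj s y⁻¹ = y := by rw [map_inv, MulAut.conj_apply, hsi, hsy, inv_inv]
    simpa only [MulEquiv.coe_toMonoidHom, e, MulAut.conj_apply] using h
  have hcomm : Commute t' t'' := by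
    have hvw := hf.2.2.1
    rcases (hiff t' ht').1 hty with e | e | e <;> rcases (hiff t'' ho).1 hc with e' | e' | e' <;>
      rw [e, e'] <;>
      first
        | exact Commute.refl _
        | exact hvw
        | exact hvw.symm
        | exact (Commute.refl v).mul_right hvw
        | exact ((Commute.refl v).mul_right hvw).symm
        | exact hvw.symm.mul_right (Commute.refl w)
        | exact (hvw.symm.mul_right (Commute.refl w)).symm
  by_contra hne
  refine K.not_swap (n := s) (v := t') (w := t'') ⟨ht', ho, hcomm, fun e => hne ?_⟩ rfl ?_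
  · exact mul_inv_eq_iff_eq_mul.1 e.symm
  · rw [ht'', hsi, show s * (s * t' * s) * s = s * s * t' * (s * s) by group, hss, one_mul, mul_one]

omit D in
/-- The inverters of `y` form a coset of its centralizer, when one of them inverts all of it. -/
theorem inverters_card {y w : G} (hwy : w * y * w = y⁻¹) (hw : orderOf w = 2) (hyo : Odd (orderOf y))
    (hy1 : y ≠ 1) (hall : ∀ g, Commute g y → w * g * w = g⁻¹) :
    (inverters y).card = Nat.card (centralizer ({y} : Set G)) := by
  have hww := Psl.involution_mul_self hw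
  rw [Nat.card_eq_fintype_card, Fintype.card_subtype]
  refine Finset.card_bij (fun s _ => w * s) ?_ (fun a _ b _ h => mul_left_cancel h) ?_
  · intro s hs
    obtain ⟨hs2, hsy, -⟩ := mem_inverters.1 hs
    have hss := Psl.involution_mul_self hs2
    refine Finset.mem_filter.2 ⟨Finset.mem_univ _, mem_centralizer_singleton_iff.2 ?_⟩
    have e : w * y⁻¹ = y * w := by
      rw [← hwy, ← mul_assoc, ← mul_assoc, hww, one_mul]
    calc w * s * y = w * (s * y * s) * s := by
          rw [mul_assoc w, mul_assoc w, mul_assoc (s * y), hss, mul_one]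
      _ = y * (w * s) := by rw [hsy, e, mul_assoc]
  · intro c hc
    have hcy : Commute c y := mem_centralizer_singleton_iff.1 (Finset.mem_filter.1 hc).2
    have hinv := hall c hcy
    refine ⟨w * c, mem_inverters.2 ⟨orderOf_eq_prime ?_ ?_, ?_, ?_⟩, by rw [← mul_assoc, hww, one_mul]⟩
    · rw [pow_two, ← mul_assoc, hinv, inv_mul_cancel]
    · intro e
      have e' : c = w := by
        rw [← inv_eq_of_mul_eq_one_right e, inv_eq_of_mul_eq_one_right hww]
      refine hy1 (Local.eq_one_of_odd hyo (eq_inv_iff_mul_eq_one.1 ?_))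
      rw [← hwy]
      subst e'
      rw [hcy.eq, mul_assoc, hww, mul_one]
    · calc w * c * y * (w * c) = w * (c * y) * w * c := by group
        _ = w * (y * c) * w * c := by rw [hcy.eq]
        _ = w * y * (w * w) * c * w * c := by rw [hww]; group
        _ = (w * y * w) * (w * c * w * c) := by group
        _ = y⁻¹ := by rw [hwy, hinv, inv_mul_cancel, mul_one]
    · intro e
      have : orderOf (w * c) = 2 := orderOf_eq_prime (by rw [pow_two, ← mul_assoc, hinv, inv_mul_cancel])
        (fun e' => hy1 (e.symm.trans e'))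
      rw [e] at this
      rw [this] at hyo
      exact absurd hyo (by decide)

theorem inv_card_b (y : G) (hy : IsTor (oddTorus K.q) y) : (inverters y).card = 3 * third m - 1 := by
  obtain ⟨u, K', hB, hall⟩ := D.torB hy.1 (D.isTor_b.1 hy).2
  obtain ⟨c, w, hc, hcu, hyc, hf, hwc, hcent⟩ := K'.bElt_torus hB
  have hww := Psl.involution_mul_self hf.2.1
  have hwi : w⁻¹ = w := inv_eq_of_mul_eq_one_right hww
  have huu := K'.t_mul_self
  have hpow : ∀ g ∈ zpowers c, w * g * w = g⁻¹ := by
    rintro _ ⟨i, rfl⟩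
    have h : w * c ^ i * w⁻¹ = (c ^ i)⁻¹ := by
      rw [← conj_zpow, hwi, hwc, _root_.inv_zpow]
    rwa [hwi] at h
  have hcov : ∀ g, Commute g y → ∃ e ∈ zpowers u, ∃ d ∈ zpowers c, e * d = g := by
    intro g hg
    rcases hcent g (hall g hg).1 hg with h | h
    · exact ⟨1, one_mem _, g, h, one_mul _⟩
    · exact ⟨u, mem_zpowers u, u * g, h, by rw [← mul_assoc, huu, one_mul]⟩
  have hinv : ∀ g, Commute g y → w * g * w = g⁻¹ := by
    intro g hg
    obtain ⟨e, he, d, hd, rfl⟩ := hcov g hg
    rcases CfsgLib.InvChar.KleinCentralizer.cases_of_mem_zpowers K'.orderOf_t he with he' | he' <;> subst e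
    · rw [one_mul]; exact hpow d hd
    · have hud : Commute u d := by
        obtain ⟨i, rfl⟩ := Subgroup.mem_zpowers_iff.1 hd
        exact hcu.symm.zpow_right i
      have huw : u * w = w * u := hf.2.2.1.eq
      calc w * (u * d) * w = u * (w * d * w) := by rw [← mul_assoc, ← huw]; group
        _ = (u * d)⁻¹ := by
          rw [hpow d hd, _root_.mul_inv_rev, inv_eq_of_mul_eq_one_right huu]
          exact hud.inv_right.eq
  rw [inverters_card (w := w) (hinv y (Commute.refl y)) hf.2.1 (K.odd_b.of_dvd_nat (D.isTor_b.1 hy).2) hy.1 hinv]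
  have hle : zpowers u ⊔ zpowers c ≤ centralizer ({y} : Set G) := by
    refine sup_le (zpowers_le.2 (mem_centralizer_singleton_iff.2 hB.2.1.symm.eq)) (zpowers_le.2 ?_)
    obtain ⟨i, rfl⟩ := Subgroup.mem_zpowers_iff.1 hyc
    exact mem_centralizer_singleton_iff.2 ((Commute.refl c).zpow_right i).eq
  have hset : (centralizer ({y} : Set G) : Set G) = (zpowers u : Set G) * (zpowers c : Set G) := by
    ext g
    refine ⟨fun hg => hcov g (mem_centralizer_singleton_iff.1 hg), ?_⟩
    rintro ⟨e, he, d, hd, rfl⟩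
    exact mul_mem (hle (mem_sup_left he)) (hle (mem_sup_right hd))
  rw [← SetLike.coe_sort_coe, hset]
  show Nat.card ((zpowers u : Set G) * (zpowers c : Set G) : Set G) = _
  have hdisj : Disjoint (zpowers u) (zpowers c) := by
    refine disjoint_iff.2 (inf_eq_bot_of_coprime ?_)
    rw [Nat.card_zpowers, Nat.card_zpowers, K'.orderOf_t, hc, Nat.coprime_two_left]
    exact K'.odd_b
  rw [← Nat.card_congr (Equiv.ofBijective
    (fun p : zpowers u × zpowers c => (⟨p.1 * p.2, Set.mul_mem_mul p.1.2 p.2.2⟩ :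
      ((zpowers u : Set G) * (zpowers c : Set G) : Set G)))
    ⟨fun a b h => mul_injective_of_disjoint hdisj (congrArg Subtype.val h),
      fun ⟨g, e, he, d, hd, h⟩ => ⟨(⟨e, he⟩, ⟨d, hd⟩), Subtype.ext h⟩⟩),
    Nat.card_prod, Nat.card_zpowers, Nat.card_zpowers, K'.orderOf_t, hc]
  have := D.b_eq
  show 2 * oddTorus K.q = _
  omega

theorem inv_card_a (y : G) (hy : IsTor (coTorus K.q) y) : (inverters y).card = 3 * third m + 1 := by
  obtain ⟨v, w, c, r, P, hyc, hall⟩ := D.torA hy.1 (D.isTor_a.1 hy).2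
  obtain ⟨hyv, hyw, hyr, -, -⟩ := P.commute_zpow hyc
  have hrr := Psl.involution_mul_self P.ord_r
  have hri : r⁻¹ = r := inv_eq_of_mul_eq_one_right hrr
  have hinv : ∀ g, Commute g y → r * g * r = g⁻¹ := by
    intro g hg
    obtain ⟨j, x, hx, rfl⟩ := hall g hg
    obtain ⟨hx2, -, -, hxc, hxr⟩ := P.sq_elem hx
    have h1 : r * c ^ j * r = (c ^ j)⁻¹ := by
      have h := congrArg (fun z => z ^ j) P.inv
      simp only [conj_pow, inv_pow] at h
      rwa [hri] at h
    calc r * (c ^ j * x) * r = r * c ^ j * r * x := by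
          rw [mul_assoc r, mul_assoc (c ^ j), hxr.eq]; group
      _ = (c ^ j * x)⁻¹ := by
        rw [h1, _root_.mul_inv_rev, inv_eq_of_mul_eq_one_right hx2]
        exact ((hxc.pow_right j).inv_right).eq.symm
  rw [inverters_card (hinv y (Commute.refl y)) P.ord_r (K.odd_a.of_dvd_nat (D.isTor_a.1 hy).2) hy.1 hinv]
  set E := fourGroup v w P.isFour.sq.1 P.isFour.sq.2 P.isFour.2.2.1 with hE
  have hy4 : ∀ e ∈ E, Commute e y := by
    rintro e (rfl | rfl | rfl | rfl)
    exacts [Commute.one_left _, hyv.symm, hyw.symm, (hyv.mul_right hyw).symm]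
  have hset : (centralizer ({y} : Set G) : Set G) = (zpowers c : Set G) * (E : Set G) := by
    ext g
    constructor
    · intro hg
      obtain ⟨j, x, hx, rfl⟩ := hall g (mem_centralizer_singleton_iff.1 hg)
      exact ⟨c ^ j, npow_mem_zpowers c j, x, hx, rfl⟩
    · rintro ⟨d, hd, e, he, rfl⟩
      refine mem_centralizer_singleton_iff.2 (Commute.mul_left ?_ (hy4 e he)).eq
      obtain ⟨i, rfl⟩ := Subgroup.mem_zpowers_iff.1 hd
      obtain ⟨l, rfl⟩ := Subgroup.mem_zpowers_iff.1 hyc
      exact Commute.zpow_zpow_self c i l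
  have h4 : Nat.card E = 4 := by
    have hf := P.fourAbelian hyc hy.1
    rw [← hf.four]
    refine (Nat.card_congr (subgroupOfEquivOfLe ?_).toEquiv).symm
    exact fun e he => mem_centralizer_singleton_iff.2 (hy4 e he).eq
  have hdisj : Disjoint (zpowers c) E := by
    refine disjoint_iff.2 (inf_eq_bot_of_coprime ?_)
    rw [Nat.card_zpowers, h4, P.ord_c, show (4 : ℕ) = 2 ^ 2 from rfl]
    exact Nat.Coprime.pow_right _ (Nat.coprime_two_right.2 K.odd_a)
  rw [← SetLike.coe_sort_coe, hset]
  show Nat.card ((zpowers c : Set G) * (E : Set G) : Set G) = _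
  rw [← Nat.card_congr (Equiv.ofBijective
    (fun p : zpowers c × E => (⟨p.1 * p.2, Set.mul_mem_mul p.1.2 p.2.2⟩ :
      ((zpowers c : Set G) * (E : Set G) : Set G)))
    ⟨fun a b h => mul_injective_of_disjoint hdisj (congrArg Subtype.val h),
      fun ⟨g, e, he, d, hd, h⟩ => ⟨(⟨e, he⟩, ⟨d, hd⟩), Subtype.ext h⟩⟩),
    Nat.card_prod, Nat.card_zpowers, h4, P.ord_c]
  have := D.a_eq
  omega

theorem inv_card_u (u : G) (hu : orderOf u = 2) : (inverters u).card = 3 * third m * (3 * third m - 1) := by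
  obtain ⟨K'⟩ := K.conf_of_involution hu
  have huu := K'.t_mul_self
  set J := Finset.univ.filter fun i : PSL2 => orderOf i = 2 with hJ
  have hset : inverters u = J.image K'.cent.up ∪ J.image (fun i => u * K'.cent.up i) := by
    ext s
    simp only [mem_inverters, Finset.mem_union, Finset.mem_image, hJ, Finset.mem_filter, Finset.mem_univ, true_and]
    constructor
    · rintro ⟨hs, hsu, hne⟩
      have hss := Psl.involution_mul_self hs
      have hcomm : Commute s u := by
        rw [inv_eq_of_mul_eq_one_right huu] at hsu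
        calc s * u = s * u * s * s := by rw [mul_assoc (s * u), hss, mul_one]
          _ = u * s := by rw [hsu]
      obtain ⟨i, hi, h | h⟩ := K'.involution_cases hcomm hs hne
      · exact Or.inl ⟨i, hi, h.symm⟩
      · exact Or.inr ⟨i, hi, h.symm⟩
    · rintro (⟨i, hi, rfl⟩ | ⟨i, hi, rfl⟩)
      · have ho : orderOf (K'.cent.up i) = 2 := by rw [orderOf_injective _ K'.cent.up_injective, hi]
        refine ⟨ho, ?_, fun e => K'.t_ne_up i e.symm⟩
        rw [(K'.mul_t_comm i).eq, mul_assoc, Psl.involution_mul_self ho, mul_one,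
          inv_eq_of_mul_eq_one_right huu]
      · have ho : orderOf (K'.cent.up i) = 2 := by rw [orderOf_injective _ K'.cent.up_injective, hi]
        have hii := Psl.involution_mul_self ho
        have hc : Commute u (K'.cent.up i) := (K'.mul_t_comm i).symm
        refine ⟨orderOf_eq_prime ?_ ?_, ?_, ?_⟩
        · rw [hc.mul_pow, pow_two, pow_two, huu, hii, one_mul]
        · intro e
          exact K'.t_ne_up i ((eq_inv_of_mul_eq_one_left e).trans (inv_eq_of_mul_eq_one_right hii))
        · have hcu : Commute (u * K'.cent.up i) u := (Commute.refl u).mul_left hc.symm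
          rw [hcu.eq, mul_assoc, show u * K'.cent.up i * (u * K'.cent.up i) = 1 by
            rw [hc.symm.mul_mul_mul_comm, huu, hii, one_mul], mul_one, inv_eq_of_mul_eq_one_right huu]
        · intro e
          rw [mul_eq_left.1 e, orderOf_one] at ho
          omega
  have hd : Disjoint (J.image K'.cent.up) (J.image (fun i => u * K'.cent.up i)) := by
    rw [Finset.disjoint_left]
    intro s h1 h2
    obtain ⟨i, -, rfl⟩ := Finset.mem_image.1 h1
    obtain ⟨j, -, hj⟩ := Finset.mem_image.1 h2
    exact K'.up_ne_t_mul j i hj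
  rw [hset, Finset.card_union_of_disjoint hd, Finset.card_image_of_injective _ K'.cent.up_injective,
    Finset.card_image_of_injective _ (fun a b h => K'.up_inj (mul_left_cancel h)),
    show J.card = Fintype.card F * oddTorus (Fintype.card F) by
      rw [hJ]; convert Psl.card_involutions D.q_eight K.q_ge]
  have hb : 2 * oddTorus (Fintype.card F) = 3 * third m - 1 := by
    have : 2 * oddTorus (Fintype.card F) + 1 = 3 * third m := D.b_eq
    omega
  rw [← hb, D.q_third]; ring

theorem num_involutions : (Finset.univ.filter fun s : G => orderOf s = 2).card =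
    (3 * third m) ^ 2 * (9 * third m ^ 2 + 1 - 3 * third m) := by
  have hset : (Finset.univ.filter fun s : G => orderOf s = 2) = Finset.univ.filter fun u => IsConj t u := by
    ext u
    simp only [Finset.mem_filter, Finset.mem_univ, true_and]
    refine ⟨fun h => K.isConj_involution h, fun h => ?_⟩
    obtain ⟨c, rfl⟩ := isConj_iff.1 h
    exact (orderOf_injective (MulAut.conj c).toMonoidHom (MulEquiv.injective _) t).trans K.orderOf_t
  rw [hset, ← Fintype.card_subtype, ← Nat.card_eq_fintype_card, CfsgLib.Characters.card_isConj_eq_index]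
  refine Nat.eq_of_mul_eq_mul_left (Nat.card_pos (α := centralizer ({t} : Set G))) ?_
  rw [(centralizer ({t} : Set G)).card_mul_index, D.card_cent' K.orderOf_t, D.card_G']
  ring

theorem num_b (s : G) (hs : orderOf s = 2) :
    2 * (Finset.univ.filter fun y : G => IsTor (oddTorus K.q) y ∧ Commute s y).card =
      3 * third m * (3 * third m + 1) * (oddTorus K.q - 1) := by
  obtain ⟨K'⟩ := K.conf_of_involution hs
  rw [K'.card_tor_commute K.odd_b]
  show 2 * (Finset.univ.filter fun k : PSL2 => k ≠ 1 ∧ k ^ oddTorus (Fintype.card F) = 1).card = _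
  rw [show (Finset.univ.filter fun k : PSL2 => k ≠ 1 ∧ k ^ oddTorus (Fintype.card F) = 1).card = _ from
      (by convert Psl.card_tor_b D.q_eight K.q_ge), ← D.a_eq, ← D.q_third]
  show _ = Fintype.card F * (4 * coTorus (Fintype.card F)) * (oddTorus (Fintype.card F) - 1)
  ring

theorem num_a (s : G) (hs : orderOf s = 2) :
    2 * (Finset.univ.filter fun y : G => IsTor (coTorus K.q) y ∧ Commute s y).card =
      3 * third m * (3 * third m - 1) * (coTorus K.q - 1) := by
  obtain ⟨K'⟩ := K.conf_of_involution hs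
  rw [K'.card_tor_commute K.odd_a]
  show 2 * (Finset.univ.filter fun k : PSL2 => k ≠ 1 ∧ k ^ coTorus (Fintype.card F) = 1).card = _
  rw [show (Finset.univ.filter fun k : PSL2 => k ≠ 1 ∧ k ^ coTorus (Fintype.card F) = 1).card = _ from
      (by convert Psl.card_tor_a D.q_eight K.q_ge),
    show 3 * third m - 1 = 2 * oddTorus (Fintype.card F) by
      have : 2 * oddTorus (Fintype.card F) + 1 = 3 * third m := D.b_eq
      omega,
    ← D.q_third]
  show _ = Fintype.card F * (2 * oddTorus (Fintype.card F)) * (coTorus (Fintype.card F) - 1)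
  ring

/-- The local counts of a group of Ree order. -/
theorem counts : Counts G (third m) (coTorus K.q) (oddTorus K.q) where
  set_ := D.setting
  hb := D.b_eq
  ha := D.a_eq
  hinv := D.num_involutions
  hclass := D.class_cases
  hcentB := D.cent_b
  hcentA := D.cent_a
  honeB := D.one_b
  hthreeA := D.three_a
  hfixA := D.fix_a
  hinvB := D.inv_card_b
  hinvA := D.inv_card_a
  hinvI := D.inv_card_u
  hnumB := D.num_b
  hnumA := D.num_a
  hthree s hs := by
    have h := D.three_bound hs
    rw [D.q_third] at h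
    rwa [show 9 * third m ^ 2 = (3 * third m) ^ 2 by ring]

/-- Every prime divisor of `q² - q + 1` is the order of an element inverted by an involution. -/
theorem exists_real {r : ℕ} (hr : r.Prime)
    (hrd : r ∣ Fintype.card F ^ 2 - Fintype.card F + 1) : ∃ x : G, orderOf x = r ∧ IsReal x := by
  refine D.counts.exists_real hr ?_
  rw [D.q_third] at hrd
  have h : 3 * third m ≤ (3 * third m) ^ 2 := Nat.le_self_pow two_ne_zero _
  rwa [show 9 * third m ^ 2 + 1 - 3 * third m = (3 * third m) ^ 2 - 3 * third m + 1 by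
    rw [show 9 * third m ^ 2 = (3 * third m) ^ 2 by ring]; omega]

end ReeLocal

end CfsgLib.ReeOrder.Conf
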