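import Mathlib

/-!
The arithmetic behind the reality of the elements of order prime to `q (q² - 1)` in a group of Ree order.

`m` is the order of the centralizer of a real element, `e` the order of its automizer, `C` the cofactor
in `q² - q + 1`, and `q = 3 k`.
-/

set_option autoImplicit false

namespace CfsgLib.ReeReal

/-- The congruence of the class of centralizers and `m ∣ q² - q + 1` combine to a linear one. -/
theorem dvd_linear {k e f m C : ℤ} (hm : m = e * f + 1) (hmC : m * C = 9 * k ^ 2 - 3 * k + 1)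
    (hcong : m ∣ e + (3 * k - 2) * C) : m ∣ 3 * e * (k - f) + e - 3 - 3 * C := by
  set D : ℤ := 3 * e * (k - f) - 2 * e - 3 with hD
  have hw : m ∣ e * k - (e * (k - f) - 1) := ⟨1, by rw [hm]; ring⟩
  have h1 : m ∣ e ^ 2 + C * D := by
    have h := dvd_sub (hcong.mul_left e) (hw.mul_left (3 * C))
    have e1 : e * (e + (3 * k - 2) * C) - 3 * C * (e * k - (e * (k - f) - 1)) = e ^ 2 + C * D := by
      rw [hD]; ring
    rwa [e1] at h
  have h2 : m ∣ D ^ 2 + 3 * e * D + 3 * e ^ 2 := by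
    have h := dvd_sub ((dvd_mul_right m C).mul_left (e ^ 2))
      (hw.mul_left (9 * (e * k + (e * (k - f) - 1)) - 3 * e))
    have e1 : e ^ 2 * (m * C) - (9 * (e * k + (e * (k - f) - 1)) - 3 * e) * (e * k - (e * (k - f) - 1)) =
        D ^ 2 + 3 * e * D + 3 * e ^ 2 := by
      rw [hmC, hD]; ring
    rwa [e1] at h
  have h3 : m ∣ D * (D + 3 * e - 3 * C) := by
    have h := dvd_sub h2 (h1.mul_left 3)
    have e1 : D ^ 2 + 3 * e * D + 3 * e ^ 2 - 3 * (e ^ 2 + C * D) = D * (D + 3 * e - 3 * C) - 6 * C * D +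
        6 * C * D := by ring
    rw [e1] at h
    simpa using h
  have hcop : IsCoprime m D := by
    have he : IsCoprime m (e ^ 2) := by
      refine IsCoprime.pow_right ⟨1, -f, ?_⟩
      rw [hm]; ring
    obtain ⟨c, hc⟩ := h1
    have : e ^ 2 = m * c + D * (-C) := by linear_combination hc
    rw [this] at he
    have h' : IsCoprime m (D * (-C)) := (IsCoprime.add_mul_left_right_iff (z := c)).1 (by rwa [add_comm])
    exact h'.of_mul_right_left
  have h4 := hcop.dvd_of_dvd_mul_left h3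
  have e2 : 3 * e * (k - f) + e - 3 - 3 * C = D + 3 * e - 3 * C := by rw [hD]; ring
  rwa [e2]

/-- The bound used for the chosen class, `δ = k - f ≥ 0`. -/
theorem linear_small {k e f m C : ℤ} (hk : 9 ≤ k) (he : 6 ≤ e) (hm : m = e * f + 1)
    (hmC : m * C = 9 * k ^ 2 - 3 * k + 1) (hbig : 3 * k ^ 2 ≤ m * (k + 2))
    (hδ : 21 * k * (k - f) ≤ C * (k + 2)) (hf : f ≤ k + 1) (hC : 7 ≤ C) :
    -m < 3 * e * (k - f) + e - 3 - 3 * C ∧ 3 * e * (k - f) + e - 3 - 3 * C < m := by
  have hm0 : 0 < m := by nlinarith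
  have hlt : m * C < 9 * k ^ 2 := by rw [hmC]; linarith
  have hC0 : 0 ≤ C := by omega
  rcases le_or_gt (k - f) (-1) with hneg | hnn
  · have hfk : f = k + 1 := by omega
    subst hfk
    have hm6 : 6 * k + 7 ≤ m := by rw [hm]; nlinarith
    have hC2 : 2 * C < 3 * k := by nlinarith
    refine ⟨?_, by nlinarith⟩
    rw [hm]
    nlinarith
  · have hd : 0 ≤ k - f := by omega
    -- first estimate
    have hC1 : C ≤ 3 * k + 6 := by
      by_contra hc
      push Not at hc
      nlinarith [mul_le_mul hbig hc.le (by linarith) (by nlinarith : (0 : ℤ) ≤ m * (k + 2))]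
    have hd1 : 4 * (k - f) ≤ k := by nlinarith
    have hm1 : 9 * k ≤ 2 * m := by rw [hm]; nlinarith
    have hC3 : C ≤ 2 * k := by nlinarith
    have hd2 : 8 * (k - f) ≤ k := by nlinarith
    have hm2 : 21 * k ≤ 4 * m := by rw [hm]; nlinarith
    have hC4 : 7 * C < 12 * k := by nlinarith
    have hd3 : 9 * (k - f) ≤ k := by nlinarith
    have hm3 : 16 * k ≤ 3 * m := by rw [hm]; nlinarith
    constructor
    · nlinarith
    · rw [hm]; nlinarith

/-- The arithmetical contradiction. -/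
theorem false_of_class {k e f m C : ℕ} (hk : 9 ≤ k) (hm : m = e * f + 1)
    (hmC : m * C + 3 * k = 9 * k ^ 2 + 1) (hC : 7 ≤ C) (he2 : 2 ∣ e) (he4 : ¬ 4 ∣ e)
    (hediv : e ∣ 3 * k * (9 * k ^ 2 - 1))
    (hcong : (m : ℤ) ∣ (e : ℤ) + (3 * (k : ℤ) - 2) * C) (hbig : 3 * k ^ 2 ≤ m * (k + 2))
    (hδ : 21 * (k : ℤ) * ((k : ℤ) - f) ≤ C * (k + 2)) (hf : f ≤ k + 1) : False := by
  have he6 : 6 ≤ e := by
    obtain ⟨j, rfl⟩ := he2
    have : ¬ 2 ∣ j := fun ⟨i, hi⟩ => he4 ⟨i, by omega⟩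
    by_contra h
    obtain rfl : j = 1 := by omega
    have hmk : m ≤ 2 * k + 3 := by omega
    nlinarith [Nat.mul_le_mul_right (k + 2) hmk]
  have hmC' : (m : ℤ) * C = 9 * (k : ℤ) ^ 2 - 3 * k + 1 := by
    have : ((m * C + 3 * k : ℕ) : ℤ) = ((9 * k ^ 2 + 1 : ℕ) : ℤ) := by rw [hmC]
    push_cast at this
    linarith
  have hm' : (m : ℤ) = (e : ℤ) * f + 1 := by rw [hm]; push_cast; ring
  obtain ⟨hl1, hl2⟩ := linear_small (k := (k : ℤ)) (e := e) (f := f) (m := m) (C := C)
    (by exact_mod_cast hk) (by exact_mod_cast he6) hm' hmC' (by exact_mod_cast hbig) hδ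
    (by exact_mod_cast hf) (by exact_mod_cast hC)
  have h0 : 3 * (e : ℤ) * (k - f) + e - 3 - 3 * C = 0 :=
    Int.eq_zero_of_abs_lt_dvd (dvd_linear hm' hmC' hcong) (abs_lt.2 ⟨hl1, hl2⟩)
  obtain ⟨i, hi⟩ : (3 : ℤ) ∣ (e : ℤ) := ⟨1 + C - e * (k - f), by linarith⟩
  obtain ⟨j2, hj2⟩ := he2
  have h3 : 3 ∣ e := by exact_mod_cast (Int.dvd_iff_emod_eq_zero.2 (by omega) : (3 : ℤ) ∣ (e : ℤ))
  obtain ⟨j, rfl⟩ : 6 ∣ e := Nat.Coprime.mul_dvd_of_dvd_of_dvd (by norm_num : Nat.Coprime 2 3) ⟨j2, hj2⟩ h3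
  have hj : j = 1 := by
    by_contra hj1
    obtain ⟨p, hp, hpj⟩ := Nat.exists_prime_and_dvd hj1
    have hp2 : p ≠ 2 := by
      rintro rfl
      obtain ⟨i, rfl⟩ := hpj
      exact he4 ⟨3 * i, by ring⟩
    have := Fact.mk hp
    have hjz : ((j : ℕ) : ZMod p) = 0 := (ZMod.natCast_eq_zero_iff _ _).2 hpj
    have hC' : ((C : ℕ) : ZMod p) = -1 := by
      have : (C : ℤ) = 6 * j * (k - f) + 2 * j - 1 := by push_cast at h0; linarith
      have := congrArg (Int.cast : ℤ → ZMod p) this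
      push_cast at this
      rw [this, hjz]; ring
    have hm1 : ((m : ℕ) : ZMod p) = 1 := by rw [hm]; push_cast; rw [hjz]; ring
    have hΦ : (9 * (k : ZMod p) ^ 2 - 3 * k + 1) = -1 := by
      have := congrArg (Int.cast : ℤ → ZMod p) hmC'
      push_cast at this
      rw [← this, hm1, hC', one_mul]
    have hz : (3 * (k : ZMod p)) * (9 * (k : ZMod p) ^ 2 - 1) = 0 := by
      have hd : p ∣ 3 * k * (9 * k ^ 2 - 1) := (hpj.mul_left 6).trans hediv
      have := (ZMod.natCast_eq_zero_iff _ _).2 hd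
      rw [Nat.cast_mul, Nat.cast_mul, Nat.cast_sub (by nlinarith)] at this
      push_cast at this
      exact this
    have h2 : ((2 : ℕ) : ZMod p) ≠ 0 := fun h =>
      hp2 ((Nat.prime_dvd_prime_iff_eq hp Nat.prime_two).1 ((ZMod.natCast_eq_zero_iff _ _).1 h))
    push_cast at h2
    rcases mul_eq_zero.1 hz with h | h
    · exact h2 (by linear_combination hΦ - (3 * (k : ZMod p) - 1) * h)
    · have h' : (3 * (k : ZMod p) - 1) * (3 * k + 1) = 0 := by linear_combination h
      rcases mul_eq_zero.1 h' with h'' | h''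
      · exact h2 (by linear_combination hΦ - (3 * (k : ZMod p)) * h'')
      · have h4 : (4 : ZMod p) = 0 := by linear_combination hΦ - (3 * (k : ZMod p) - 2) * h''
        exact h2 (by
          have : (2 : ZMod p) * 2 = 0 := by linear_combination h4
          exact mul_self_eq_zero.1 this)
  subst hj
  push_cast at h0
  nlinarith

end CfsgLib.ReeReal
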