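import Cfsg.Agent.Lib.ReeReal.Arith

/-!
Real elements of order prime to `q (q² - 1)` in a group of Ree order: their centralizers are abelian
Hall subgroups, and every prime divisor of `q² - q + 1` is the order of a real element.
-/

set_option autoImplicit false

namespace CfsgLib.ReeReal

open Subgroup

universe u

variable {G : Type u} [Group G]

/-- An element is inverted by an involution. -/
def IsReal (x : G) : Prop := ∃ s : G, orderOf s = 2 ∧ s * x * s = x⁻¹

/-- A non-trivial element of order prime to `n`. -/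
def IsSix (n : ℕ) (x : G) : Prop := x ≠ 1 ∧ (orderOf x).Coprime n

/-- The properties of a group of Ree order used in the argument, `q = 3 k`. -/
structure Setting (G : Type u) [Group G] (k : ℕ) : Prop where
  hk : 9 ≤ k
  hdiv : ∀ p : ℕ, p.Prime → p ∣ k → p = 3
  hcard : Nat.card G = (3 * k) ^ 3 * (9 * k ^ 2 - 1) * (9 * k ^ 2 + 1 - 3 * k)
  hcent : ∀ s : G, orderOf s = 2 → Nat.card (centralizer ({s} : Set G)) ∣ 3 * k * (9 * k ^ 2 - 1)
  hfour : ∀ g : G, g * g * (g * g) = 1 → g * g = 1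
  hclean : ∀ x y : G, IsSix (3 * k * (9 * k ^ 2 - 1)) x → IsReal x → Commute x y →
    (orderOf y).Coprime (3 * k * (9 * k ^ 2 - 1))

theorem phi_ne_2 : ∀ z : ZMod 2, 9 * z ^ 2 + 1 - 3 * z ≠ 0 := by decide

theorem phi_ne_3 : ∀ z : ZMod 3, 9 * z ^ 2 + 1 - 3 * z ≠ 0 := by decide

theorem phi_ne_5 : ∀ z : ZMod 5, 9 * z ^ 2 + 1 - 3 * z ≠ 0 := by decide

theorem prime_ge_seven {k p : ℕ} (hp : p.Prime) (hd : p ∣ 9 * k ^ 2 + 1 - 3 * k) : 7 ≤ p := by
  have := Fact.mk hp
  have h := (ZMod.natCast_eq_zero_iff _ _).2 hd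
  rw [Nat.cast_sub (by nlinarith), Nat.cast_add, Nat.cast_mul, Nat.cast_mul, Nat.cast_pow] at h
  by_contra h7
  push Not at h7
  obtain rfl | rfl | rfl : p = 2 ∨ p = 3 ∨ p = 5 := by
    have := hp.two_le
    interval_cases p <;> simp_all (config := { decide := true })
  · exact phi_ne_2 k (by simpa using h)
  · exact phi_ne_3 k (by simpa using h)
  · exact phi_ne_5 k (by simpa using h)

/-- Free actions have orbits of full size. -/
theorem card_dvd_of_free {α β : Type*} [Group α] [MulAction α β]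
    (h : ∀ b : β, MulAction.stabilizer α b = ⊥) : Nat.card α ∣ Nat.card β := by
  rw [Nat.card_congr (MulAction.selfEquivOrbitsQuotientProd h), Nat.card_prod]
  exact dvd_mul_left _ _

theorem IsReal.conj {x : G} (h : IsReal x) (g : G) : IsReal (g * x * g⁻¹) := by
  obtain ⟨s, hs, hsx⟩ := h
  refine ⟨g * s * g⁻¹, by rw [← hs]; exact (MulAut.conj g).orderOf_eq s, ?_⟩
  calc g * s * g⁻¹ * (g * x * g⁻¹) * (g * s * g⁻¹) = g * (s * x * s) * g⁻¹ := by group
    _ = (g * x * g⁻¹)⁻¹ := by rw [hsx]; group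

theorem IsSix.conj {n : ℕ} {x : G} (h : IsSix n x) (g : G) : IsSix n (g * x * g⁻¹) :=
  ⟨fun e => h.1 (conj_eq_one_iff.1 e),
    by rw [show g * x * g⁻¹ = MulAut.conj g x from rfl, MulEquiv.orderOf_eq]; exact h.2⟩

theorem mul_self_of_two {s : G} (hs : orderOf s = 2) : s * s = 1 := by
  rw [← pow_two, ← hs, pow_orderOf_eq_one]

namespace Setting

variable [Finite G] {k : ℕ} (S : Setting G k)
include S

theorem coprime_of_mem {x y : G} (hx : IsSix (3 * k * (9 * k ^ 2 - 1)) x) (hr : IsReal x)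
    (hy : y ∈ centralizer ({x} : Set G)) : (orderOf y).Coprime (3 * k * (9 * k ^ 2 - 1)) :=
  S.hclean x y hx hr (mem_centralizer_singleton_iff.1 hy).symm

theorem two_dvd : 2 ∣ 3 * k * (9 * k ^ 2 - 1) := by
  rcases Nat.even_or_odd k with ⟨j, hj⟩ | ⟨j, hj⟩
  · exact Dvd.dvd.mul_right ⟨3 * j, by omega⟩ _
  · exact Dvd.dvd.mul_left ⟨18 * j ^ 2 + 18 * j + 4, by rw [hj]; ring_nf; omega⟩ _

theorem eq_one_of_commute_inv {x y s : G} (hx : IsSix (3 * k * (9 * k ^ 2 - 1)) x) (hr : IsReal x)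
    (hy : y ∈ centralizer ({x} : Set G)) (hs : orderOf s = 2) (hys : Commute y s) : y = 1 := by
  rw [← orderOf_eq_one_iff]
  refine Nat.eq_one_of_dvd_coprimes (S.coprime_of_mem hx hr hy) dvd_rfl ?_
  have : y ∈ centralizer ({s} : Set G) := mem_centralizer_singleton_iff.2 hys.eq
  exact ((Subgroup.orderOf_dvd_natCard _ this).trans (S.hcent s hs))

/-- An involution inverting `x` inverts its centralizer. -/
theorem inverts {x y s : G} (hx : IsSix (3 * k * (9 * k ^ 2 - 1)) x) (hs : orderOf s = 2)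
    (hsx : s * x * s = x⁻¹) (hy : y ∈ centralizer ({x} : Set G)) : s * y * s = y⁻¹ := by
  have hr : IsReal x := ⟨s, hs, hsx⟩
  have hss := mul_self_of_two hs
  have hstab : ∀ z ∈ centralizer ({x} : Set G), s * z * s ∈ centralizer ({x} : Set G) := by
    intro z hz
    have hzx := mem_centralizer_singleton_iff.1 hz
    rw [mem_centralizer_singleton_iff]
    have hzi : z * x⁻¹ = x⁻¹ * z := ((show Commute z x from hzx).inv_right).eq
    have hxs : x * s = s * x⁻¹ := by
      rw [← hsx, ← mul_assoc, ← mul_assoc, hss, one_mul]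
    have hsx' : s * x = x⁻¹ * s := by
      rw [← hsx, mul_assoc (s * x), hss, mul_one]
    calc s * z * s * x = s * (z * x⁻¹) * s := by rw [mul_assoc (s * z), hsx', ← mul_assoc, mul_assoc s z]
      _ = s * x⁻¹ * (z * s) := by rw [hzi]; group
      _ = x * (s * z * s) := by rw [← hxs]; group
  let φ : centralizer ({x} : Set G) → centralizer ({x} : Set G) :=
    fun z => ⟨(z : G)⁻¹ * (s * z * s), mul_mem (inv_mem z.2) (hstab z z.2)⟩
  have hinj : Function.Injective φ := by
    intro a b hab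
    have hab' : (a : G)⁻¹ * (s * a * s) = (b : G)⁻¹ * (s * b * s) := congrArg Subtype.val hab
    have h1 : ((b : G) * (a : G)⁻¹) = s * ((b : G) * (a : G)⁻¹) * s := by
      have : (b : G) * (a : G)⁻¹ * (s * a * s) = s * b * s := by
        rw [mul_assoc, hab', mul_inv_cancel_left]
      calc (b : G) * (a : G)⁻¹ = (b : G) * (a : G)⁻¹ * (s * a * s) * (s * a * s)⁻¹ := by group
        _ = s * b * s * (s * a * s)⁻¹ := by rw [this]
        _ = s * ((b : G) * (a : G)⁻¹) * (s * s * s⁻¹) := by rw [hss, mul_inv_rev, mul_inv_rev]; group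
        _ = _ := by group
    have hc : Commute ((b : G) * (a : G)⁻¹) s := by
      show _ = _
      conv_lhs => rw [h1, mul_assoc, hss, mul_one]
    have := S.eq_one_of_commute_inv hx hr (mul_mem b.2 (inv_mem a.2)) hs hc
    exact Subtype.ext (mul_inv_eq_one.1 this).symm
  obtain ⟨z, hz⟩ := (Finite.injective_iff_surjective.1 hinj) ⟨y, hy⟩
  have hz' : (z : G)⁻¹ * (s * z * s) = y := congrArg Subtype.val hz
  have hsi : s⁻¹ = s := inv_eq_of_mul_eq_one_right hss
  calc s * y * s = s * (z : G)⁻¹ * s * z * (s * s) := by rw [← hz']; group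
    _ = y⁻¹ := by rw [hss, mul_one, ← hz', mul_inv_rev, inv_inv, mul_inv_rev, mul_inv_rev, hsi]; group

theorem comm_cent {x y z : G} (hx : IsSix (3 * k * (9 * k ^ 2 - 1)) x) (hr : IsReal x)
    (hy : y ∈ centralizer ({x} : Set G)) (hz : z ∈ centralizer ({x} : Set G)) : y * z = z * y := by
  obtain ⟨s, hs, hsx⟩ := hr
  have hss := mul_self_of_two hs
  have h := S.inverts hx hs hsx (mul_mem hy hz)
  have e : s * (y * z) * s = y⁻¹ * z⁻¹ := by
    rw [← S.inverts hx hs hsx hy, ← S.inverts hx hs hsx hz]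
    calc s * (y * z) * s = s * y * (s * s) * z * s := by rw [hss]; group
      _ = s * y * s * (s * z * s) := by group
  rw [e, mul_inv_rev] at h
  have h' := congrArg Inv.inv h
  simp only [mul_inv_rev, inv_inv] at h'
  exact h'.symm

/-- All non-trivial elements of the centralizer are real of the same kind and have that centralizer. -/
theorem cent_eq {x y : G} (hx : IsSix (3 * k * (9 * k ^ 2 - 1)) x) (hr : IsReal x)
    (hy : y ∈ centralizer ({x} : Set G)) (hy1 : y ≠ 1) :
    IsSix (3 * k * (9 * k ^ 2 - 1)) y ∧ IsReal y ∧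
      centralizer ({y} : Set G) = centralizer ({x} : Set G) := by
  have h1 : IsSix (3 * k * (9 * k ^ 2 - 1)) y := ⟨hy1, S.coprime_of_mem hx hr hy⟩
  have h2 : IsReal y := by
    obtain ⟨s, hs, hsx⟩ := hr
    exact ⟨s, hs, S.inverts hx hs hsx hy⟩
  refine ⟨h1, h2, le_antisymm (fun z hz => ?_) (fun z hz => ?_)⟩
  · exact mem_centralizer_singleton_iff.2 (S.comm_cent h1 h2 hz
      (mem_centralizer_singleton_iff.2 (mem_centralizer_singleton_iff.1 hy).symm))
  · exact mem_centralizer_singleton_iff.2 (S.comm_cent hx hr hz hy)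

theorem self_mem (x : G) : x ∈ centralizer ({x} : Set G) := mem_centralizer_singleton_iff.2 rfl

/-- The centralizer contains a Sylow subgroup for each of its primes. -/
theorem sylow_le {x a : G} (hx : IsSix (3 * k * (9 * k ^ 2 - 1)) x) (hr : IsReal x) {p : ℕ}
    [Fact p.Prime] (ha : a ∈ centralizer ({x} : Set G)) (hap : orderOf a = p) (P : Sylow p G)
    (haP : a ∈ (P : Subgroup G)) : (P : Subgroup G) ≤ centralizer ({x} : Set G) := by
  have ha1 : a ≠ 1 := fun e => (Fact.out : p.Prime).ne_one (by rw [← hap, e, orderOf_one])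
  obtain ⟨-, -, hCa⟩ := S.cent_eq hx hr ha ha1
  have : Nontrivial (P : Subgroup G) := (nontrivial_iff_exists_ne_one _).2 ⟨a, haP, ha1⟩
  have := IsPGroup.center_nontrivial P.isPGroup'
  obtain ⟨⟨z, hz⟩, hz1⟩ := exists_ne (1 : Subgroup.center (P : Subgroup G))
  have hzc : ∀ w ∈ (P : Subgroup G), w * (z : G) = (z : G) * w := fun w hw =>
    congrArg Subtype.val (mem_center_iff.1 hz ⟨w, hw⟩)
  have hzA : (z : G) ∈ centralizer ({x} : Set G) :=
    hCa ▸ mem_centralizer_singleton_iff.2 (hzc a haP).symm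
  obtain ⟨-, -, hCz⟩ := S.cent_eq hx hr hzA (fun e => hz1 (Subtype.ext (Subtype.ext e)))
  intro w hw
  rw [← hCz]
  exact mem_centralizer_singleton_iff.2 (hzc w hw)

/-- Centralizers that are not conjugate have coprime orders. -/
theorem coprime_cards {x y : G} (hx : IsSix (3 * k * (9 * k ^ 2 - 1)) x) (hr : IsReal x)
    (hy : IsSix (3 * k * (9 * k ^ 2 - 1)) y) (hry : IsReal y)
    (hne : ∀ g : G, g * y * g⁻¹ ∉ centralizer ({x} : Set G)) :
    (Nat.card (centralizer ({x} : Set G))).Coprime (Nat.card (centralizer ({y} : Set G))) := by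
  by_contra hcop
  obtain ⟨p, hp, hpx, hpy⟩ := Nat.Prime.not_coprime_iff_dvd.1 hcop
  have := Fact.mk hp
  obtain ⟨a, ha⟩ := exists_prime_orderOf_dvd_card' p hpx
  obtain ⟨b, hb⟩ := exists_prime_orderOf_dvd_card' p hpy
  rw [← Subgroup.orderOf_coe] at ha hb
  obtain ⟨P, hP⟩ := (IsPGroup.of_card (n := 1) (G := zpowers (a : G))
    (by rw [Nat.card_zpowers, ha, pow_one])).exists_le_sylow
  obtain ⟨Q, hQ⟩ := (IsPGroup.of_card (n := 1) (G := zpowers (b : G))
    (by rw [Nat.card_zpowers, hb, pow_one])).exists_le_sylow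
  obtain ⟨g, hg⟩ := MulAction.exists_smul_eq G Q P
  have hbQ : (b : G) ∈ (Q : Subgroup G) := hQ (mem_zpowers _)
  have hgb : g * b * g⁻¹ ∈ (P : Subgroup G) := by
    rw [← hg, Sylow.coe_subgroup_smul]
    exact Subgroup.smul_mem_pointwise_smul _ (MulAut.conj g) _ hbQ
  have hgb' := S.sylow_le hx hr a.2 ha P (hP (mem_zpowers _)) hgb
  have hb1 : (b : G) ≠ 1 := fun e => hp.ne_one (by rw [← hb, e, orderOf_one])
  obtain ⟨-, -, hC⟩ := S.cent_eq hx hr hgb' (fun e => hb1 (conj_eq_one_iff.1 e))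
  apply hne g
  rw [← hC, mem_centralizer_singleton_iff]
  have := mem_centralizer_singleton_iff.1 b.2
  calc g * y * g⁻¹ * (g * b * g⁻¹) = g * (y * b) * g⁻¹ := by group
    _ = g * b * g⁻¹ * (g * y * g⁻¹) := by rw [← this]; group

theorem card_dvd_phi {x : G} (hx : IsSix (3 * k * (9 * k ^ 2 - 1)) x) (hr : IsReal x) :
    (Nat.card (centralizer ({x} : Set G))).Coprime (3 * k * (9 * k ^ 2 - 1)) ∧
      Nat.card (centralizer ({x} : Set G)) ∣ 9 * k ^ 2 + 1 - 3 * k := by
  have hc : (Nat.card (centralizer ({x} : Set G))).Coprime (3 * k * (9 * k ^ 2 - 1)) := by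
    refine Nat.coprime_of_dvd fun p hp hpc hpn => ?_
    have := Fact.mk hp
    obtain ⟨a, ha⟩ := exists_prime_orderOf_dvd_card' p hpc
    have h := S.coprime_of_mem hx hr a.2
    rw [Subgroup.orderOf_coe, ha] at h
    exact hp.ne_one (h.eq_one_of_dvd hpn)
  refine ⟨hc, ?_⟩
  have hd : Nat.card (centralizer ({x} : Set G)) ∣
      (3 * k * (9 * k ^ 2 - 1)) * ((3 * k) ^ 2 * (9 * k ^ 2 + 1 - 3 * k)) := by
    have := Subgroup.card_subgroup_dvd_card (centralizer ({x} : Set G))
    rwa [S.hcard, show (3 * k) ^ 3 * (9 * k ^ 2 - 1) * (9 * k ^ 2 + 1 - 3 * k) =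
      (3 * k * (9 * k ^ 2 - 1)) * ((3 * k) ^ 2 * (9 * k ^ 2 + 1 - 3 * k)) by ring] at this
  have h2 := hc.dvd_of_dvd_mul_left hd
  exact ((hc.coprime_dvd_right (Dvd.intro _ rfl)).pow_right 2).dvd_of_dvd_mul_left h2

end Setting

end CfsgLib.ReeReal
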