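import Cfsg.Agent.Lib.ReeReal.CC

/-!
In a group of Ree order every prime divisor of `q² - q + 1` is the order of a real element, granted the
number of pairs of involutions whose product has such an order and a bound on the number of these elements.
-/

set_option autoImplicit false

namespace CfsgLib.ReeReal

open Subgroup

universe u

variable {G : Type u} [Group G] [Finite G] {k : ℕ}

namespace Setting

variable (S : Setting G k)
include S

/-- The number of conjugates of a centralizer is one modulo its order. -/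
theorem index_modEq {x : G} (hx : IsSix (3 * k * (9 * k ^ 2 - 1)) x) (hr : IsReal x)
    (he : (Subgroup.centralizer ({x} : Set G)).relIndex
        (normalizer (centralizer ({x} : Set G) : Set G)) ∣ 3 * k * (9 * k ^ 2 - 1)) :
    ∃ j : ℕ, (normalizer (centralizer ({x} : Set G) : Set G)).index =
      Nat.card (centralizer ({x} : Set G)) * j + 1 := by
  classical
  set A := centralizer ({x} : Set G) with hA
  set N := normalizer (A : Set G) with hN
  have hcop := (S.card_dvd_phi hx hr).1
  -- an element of `A` fixing a coset forces the coset to be trivial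
  have key : ∀ a : G, a ∈ A → a ≠ 1 → ∀ g : G, g⁻¹ * a * g ∈ N → g ∈ N := by
    intro a ha ha1 g hg
    have hAN : A ≤ N := le_normalizer
    have : (A.subgroupOf N).Normal := normal_in_normalizer
    have h1 : g⁻¹ * a * g ∈ A := by
      have ho : orderOf (QuotientGroup.mk' (A.subgroupOf N) ⟨_, hg⟩) = 1 := by
        refine Nat.eq_one_of_dvd_coprimes (hcop.coprime_dvd_right he) ?_ ?_
        · refine (orderOf_map_dvd _ _).trans ?_
          rw [Subgroup.orderOf_mk, show g⁻¹ * a * g = MulAut.conj g⁻¹ a by simp, MulEquiv.orderOf_eq]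
          exact Subgroup.orderOf_dvd_natCard A ha
        · exact _root_.orderOf_dvd_natCard _
      rw [orderOf_eq_one_iff, QuotientGroup.mk'_apply, QuotientGroup.eq_one_iff] at ho
      exact ho
    have hb1 : g⁻¹ * a * g ≠ 1 := fun e => ha1 (by
      calc a = g * (g⁻¹ * a * g) * g⁻¹ := by group
        _ = 1 := by rw [e]; group)
    obtain ⟨-, -, e1⟩ := S.cent_eq hx hr h1 hb1
    obtain ⟨-, -, e2⟩ := S.cent_eq hx hr ha ha1
    rw [hN, mem_normalizer_iff]
    intro b
    rw [hA]
    constructor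
    · intro hb
      rw [← e1, mem_centralizer_singleton_iff] at hb
      rw [← e2, mem_centralizer_singleton_iff]
      calc g * b * g⁻¹ * a = g * (b * (g⁻¹ * a * g)) * g⁻¹ := by group
        _ = a * (g * b * g⁻¹) := by rw [hb]; group
    · intro hb
      rw [← e2, mem_centralizer_singleton_iff] at hb
      rw [← e1, mem_centralizer_singleton_iff]
      calc b * (g⁻¹ * a * g) = g⁻¹ * ((g * b * g⁻¹) * a) * g := by group
        _ = g⁻¹ * a * g * b := by rw [hb]; group
  let Y := {c : G ⧸ N // c ≠ ((1 : G) : G ⧸ N)}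
  have hfix : ∀ (a : A) (c : G ⧸ N), c ≠ ((1 : G) : G ⧸ N) → a • c ≠ ((1 : G) : G ⧸ N) := by
    rintro a c hc he'
    obtain ⟨g, rfl⟩ := QuotientGroup.mk_surjective c
    apply hc
    have h1 : (((a : G) * g : G) : G ⧸ N) = ((1 : G) : G ⧸ N) := he'
    rw [QuotientGroup.eq] at h1 ⊢
    simp only [mul_one] at h1 ⊢
    have := mul_mem h1 (le_normalizer a.2)
    rwa [mul_inv_rev, inv_mul_cancel_right] at this
  let _ : MulAction A Y :=
    { smul := fun a c => ⟨a • (c : G ⧸ N), hfix a c c.2⟩
      one_smul := fun c => Subtype.ext (one_smul A (c : G ⧸ N))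
      mul_smul := fun a b c => Subtype.ext (mul_smul a b (c : G ⧸ N)) }
  have hfree : ∀ c : Y, MulAction.stabilizer A c = ⊥ := by
    rintro ⟨c, hc⟩
    obtain ⟨g, rfl⟩ := QuotientGroup.mk_surjective c
    rw [eq_bot_iff]
    intro a ha
    have h1 : (((a : G) * g : G) : G ⧸ N) = (g : G ⧸ N) :=
      congrArg Subtype.val (MulAction.mem_stabilizer_iff.1 ha)
    rw [Subgroup.mem_bot]
    by_contra ha1
    apply hc
    rw [QuotientGroup.eq, mul_one] at *
    refine inv_mem (key a a.2 (fun e => ha1 (Subtype.ext e)) g ?_)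
    have := inv_mem h1
    rw [mul_inv_rev, inv_inv] at this
    simpa [mul_assoc] using this
  obtain ⟨j, hj⟩ := card_dvd_of_free hfree
  refine ⟨j, ?_⟩
  rw [Subgroup.index, ← hj]
  have : Fintype (G ⧸ N) := Fintype.ofFinite _
  rw [Nat.card_eq_fintype_card, Nat.card_eq_fintype_card, Fintype.card_subtype_compl,
    Fintype.card_subtype_eq]
  have := Fintype.card_pos (α := G ⧸ N)
  omega

/-- The order of the automizer. -/
theorem automizer {x s : G} (hx : IsSix (3 * k * (9 * k ^ 2 - 1)) x) (hs : orderOf s = 2)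
    (hsx : s * x * s = x⁻¹) :
    let A := centralizer ({x} : Set G)
    let e := A.relIndex (normalizer (A : Set G))
    e ∣ 3 * k * (9 * k ^ 2 - 1) ∧ 2 ∣ e ∧ ¬ 4 ∣ e ∧ ∃ f : ℕ, Nat.card A = e * f + 1 := by
  classical
  intro A e
  have hr : IsReal x := ⟨s, hs, hsx⟩
  set N := normalizer (A : Set G) with hN
  set K := N ⊓ centralizer ({s} : Set G) with hK
  have hss := mul_self_of_two hs
  have hsi : s⁻¹ = s := inv_eq_of_mul_eq_one_right hss
  have hinv : ∀ a ∈ A, s * a * s = a⁻¹ := fun a ha => S.inverts hx hs hsx ha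
  have hsN : s ∈ N := by
    refine mem_normalizer_iff.2 fun a => ⟨fun ha => ?_, fun ha => ?_⟩
    · rw [hsi, hinv a ha]; exact inv_mem ha
    · have h := hinv _ ha
      have : s * (s * a * s⁻¹) * s = a := by
        rw [hsi, show s * (s * a * s) * s = (s * s) * a * (s * s) by group, hss, one_mul, mul_one]
      rw [this] at h
      rw [h]
      exact inv_mem ha
  have hdisj : ∀ a ∈ A, Commute a s → a = 1 := fun a ha h => S.eq_one_of_commute_inv hx hr ha hs h
  have hodd : Odd (Nat.card A) := by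
    rw [← Nat.not_even_iff_odd, even_iff_two_dvd]
    intro h2
    exact absurd (Nat.eq_one_of_dvd_coprimes (S.card_dvd_phi hx hr).1 h2 S.two_dvd) (by norm_num)
  have hfac : ∀ n ∈ N, ∃ a ∈ A, ∃ c ∈ K, a * c = n := by
    intro n hn
    set s' := n * s * n⁻¹ with hs'
    have hinv' : ∀ a ∈ A, s' * a * s' = a⁻¹ := by
      intro a ha
      have hb : n⁻¹ * a * n ∈ A := by
        have := (mem_normalizer_iff.1 (inv_mem hn) a).1 ha
        rwa [inv_inv] at this
      have h := hinv _ hb
      calc s' * a * s' = n * (s * (n⁻¹ * a * n) * s) * n⁻¹ := by rw [hs']; group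
        _ = a⁻¹ := by rw [h]; group
    have hprod : s * s' ∈ A := by
      refine mem_centralizer_singleton_iff.2 ?_
      have h1 : s' * x * s' = x⁻¹ := hinv' x (S.self_mem x)
      have h2 : s' * s' = 1 := by rw [hs', show n * s * n⁻¹ * (n * s * n⁻¹) = n * (s * s) * n⁻¹ by group, hss]; group
      calc s * s' * x = s * (s' * x * s') * (s' * 1) := by
            rw [mul_one, mul_assoc s, mul_assoc s, mul_assoc (s' * x), h2, mul_one]
        _ = x * (s * s') := by
            rw [h1, mul_one, show s * x⁻¹ = x * s from ?_, mul_assoc]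
            have := congrArg Inv.inv hsx
            rw [mul_inv_rev, mul_inv_rev, hsi, inv_inv, ← mul_assoc] at this
            calc s * x⁻¹ = s * x⁻¹ * (s * s) := by rw [hss, mul_one]
              _ = s * x⁻¹ * s * s := by rw [mul_assoc (s * x⁻¹)]
              _ = x * s := by rw [this]
    obtain ⟨i, hi⟩ := hodd
    set c := (s * s') ^ (i + 1) with hc
    have hcA : c ∈ A := pow_mem hprod _
    have hc2 : c * c = s * s' := by
      rw [hc, ← pow_add, show i + 1 + (i + 1) = Nat.card A + 1 by omega, pow_succ,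
        show (s * s') ^ Nat.card A = 1 from orderOf_dvd_iff_pow_eq_one.1
          (Subgroup.orderOf_dvd_natCard A hprod), one_mul]
    have hcs : c⁻¹ * s = s * c := by
      rw [← hinv c hcA, mul_assoc, hss, mul_one]
    have hs'' : s' = c⁻¹ * s * c := by
      rw [hcs, mul_assoc, hc2, ← mul_assoc, hss, one_mul]
    refine ⟨c⁻¹, inv_mem hcA, c * n, mem_inf.2 ⟨mul_mem (le_normalizer hcA) hn, ?_⟩, by group⟩
    rw [mem_centralizer_singleton_iff]
    calc c * n * s = c * (n * s * n⁻¹) * n := by group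
      _ = s * (c * n) := by rw [← hs', hs'']; group
  have he : e = Nat.card K := by
    show A.relIndex N = _
    have hAN : A ≤ N := le_normalizer
    have hcpl : IsComplement' (A.subgroupOf N) (K.subgroupOf N) := by
      refine isComplement'_of_disjoint_and_mul_eq_univ ?_ ?_
      · rw [disjoint_iff, eq_bot_iff]
        rintro ⟨a, haN⟩ ⟨ha, hb⟩
        exact Subtype.ext (hdisj a ha (mem_centralizer_singleton_iff.1 (mem_inf.1 hb).2))
      · refine Set.eq_univ_of_forall fun ⟨n, hn⟩ => ?_
        obtain ⟨a, ha, c, hc, hac⟩ := hfac n hn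
        exact ⟨⟨a, hAN ha⟩, ha, ⟨c, (mem_inf.1 hc).1⟩, hc, Subtype.ext hac⟩
    rw [Subgroup.relIndex, hcpl.symm.index_eq_card,
      Nat.card_congr (subgroupOfEquivOfLe inf_le_left).toEquiv]
  refine ⟨?_, ?_, ?_, ?_⟩
  · rw [he]
    exact (card_dvd_of_le inf_le_right).trans (S.hcent s hs)
  · rw [he, ← hs]
    exact Subgroup.orderOf_dvd_natCard K (mem_inf.2 ⟨hsN, mem_centralizer_singleton_iff.2 rfl⟩)
  · intro h4
    rw [he] at h4
    have := Fact.mk Nat.prime_two
    obtain ⟨T, hT⟩ := Sylow.exists_subgroup_card_pow_prime 2 (G := K) (n := 2) h4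
    have hsq : ∀ u : T, u * u = 1 := by
      intro u
      have h : u ^ 4 = 1 := by
        have := pow_card_eq_one' (x := u)
        rwa [hT] at this
      refine Subtype.ext (Subtype.ext (S.hfour _ ?_))
      have e4 := congrArg (fun z : T => ((z : K) : G)) h
      simpa [pow_succ, mul_assoc] using e4
    obtain ⟨u, hu1, hus⟩ : ∃ u : T, u ≠ 1 ∧ ((u : K) : G) ≠ s := by
      by_contra hcon
      push Not at hcon
      have hsub : ∀ a b : T, a ≠ 1 → b ≠ 1 → a = b := fun a b ha hb =>
        Subtype.ext (Subtype.ext ((hcon a ha).trans (hcon b hb).symm))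
      have : Nat.card T ≤ 2 := by
        have : Fintype T := Fintype.ofFinite _
        rw [Nat.card_eq_fintype_card, ← Finset.card_univ]
        by_contra hlt
        obtain ⟨a, b, c, -, -, -, hab, hac, hbc⟩ := Finset.two_lt_card_iff.1 (not_le.1 hlt)
        by_cases ha : a = 1
        · exact hbc (hsub b c (fun e => hab (ha.trans e.symm)) (fun e => hac (ha.trans e.symm)))
        by_cases hb : b = 1
        · exact hac (hsub a c ha (fun e => hbc (hb.trans e.symm)))
        · exact hab (hsub a b ha hb)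
      omega
    set v : G := ((u : K) : G) with hv
    have hvv : v * v = 1 := congrArg (fun z : T => ((z : K) : G)) (hsq u)
    have hvo : orderOf v = 2 := orderOf_eq_prime (by rw [pow_two, hvv])
      (fun e => hu1 (Subtype.ext (Subtype.ext e)))
    have hvK := mem_inf.1 (u : K).2
    have hvi : v⁻¹ = v := inv_eq_of_mul_eq_one_right hvv
    have hvA : ∀ a ∈ A, v * a * v ∈ A := fun a ha => by
      have := (mem_normalizer_iff.1 hvK.1 a).1 ha
      rwa [hvi] at this
    have hvx : v * x * v = x⁻¹ := by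
      have hxA : x ∈ A := S.self_mem x
      have hw : Commute (x * (v * x * v)) v := by
        show x * (v * x * v) * v = v * (x * (v * x * v))
        have hc : x * (v * x * v) = v * x * v * x :=
          S.comm_cent hx hr hxA (hvA x hxA)
        rw [hc]
        calc v * x * v * x * v = v * (x * v * x * v) := by group
          _ = v * (x * (v * x * v)) := by group
          _ = v * (v * x * v * x) := by rw [hc]
      exact eq_inv_of_mul_eq_one_right (S.eq_one_of_commute_inv hx hr (mul_mem hxA (hvA x hxA)) hvo hw)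
    have hsv : s * v ∈ A := by
      refine mem_centralizer_singleton_iff.2 ?_
      calc s * v * x = s * (v * x * v) * v := by
            rw [mul_assoc s, mul_assoc s, mul_assoc (v * x), hvv, mul_one]
        _ = x * (s * v) := by
            rw [hvx]
            have := congrArg Inv.inv hsx
            rw [mul_inv_rev, mul_inv_rev, hsi, inv_inv, ← mul_assoc] at this
            calc s * x⁻¹ * v = s * x⁻¹ * s * (s * v) := by rw [← mul_assoc, mul_assoc (s * x⁻¹), hss, mul_one]
              _ = x * (s * v) := by rw [this]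
    have hsv1 : s * v = 1 := hdisj _ hsv (by
      have := mem_centralizer_singleton_iff.1 hvK.2
      show s * v * s = s * (s * v)
      rw [mul_assoc, this])
    exact hus (by rw [eq_inv_of_mul_eq_one_right hsv1, hsi])
  · let Y := {a : A // a ≠ 1}
    have hKA : ∀ (c : K) (a : A), (c : G) * a * (c : G)⁻¹ ∈ A := fun c a =>
      (mem_normalizer_iff.1 (mem_inf.1 c.2).1 _).1 a.2
    let _ : MulAction K Y :=
      { smul := fun c a => ⟨⟨(c : G) * (a : A) * (c : G)⁻¹, hKA c a⟩, fun h => a.2 (Subtype.ext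
          (conj_eq_one_iff.1 (congrArg Subtype.val h)))⟩
        one_smul := fun a => Subtype.ext (Subtype.ext (by
          show ((1 : K) : G) * (a : A) * ((1 : K) : G)⁻¹ = _; simp))
        mul_smul := fun b c a => Subtype.ext (Subtype.ext (by
          show ((b * c : K) : G) * (a : A) * ((b * c : K) : G)⁻¹ = (b : G) * ((c : G) * (a : A) * (c : G)⁻¹) * (b : G)⁻¹
          rw [Subgroup.coe_mul, mul_inv_rev]; group)) }
    have hfree : ∀ a : Y, MulAction.stabilizer K a = ⊥ := by
      intro a
      rw [eq_bot_iff]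
      intro c hc
      have h := congrArg (fun z : Y => ((z : A) : G)) (MulAction.mem_stabilizer_iff.1 hc)
      replace h : (c : G) * (a : A) * (c : G)⁻¹ = (a : A) := h
      obtain ⟨-, -, hCa⟩ := S.cent_eq hx hr (a : A).2 (fun e => a.2 (Subtype.ext e))
      have hcA : (c : G) ∈ A := by
        show (c : G) ∈ centralizer ({x} : Set G)
        rw [← hCa, mem_centralizer_singleton_iff]
        exact mul_inv_eq_iff_eq_mul.1 h
      rw [Subgroup.mem_bot]
      exact Subtype.ext (hdisj _ hcA (mem_centralizer_singleton_iff.1 (mem_inf.1 c.2).2))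
    obtain ⟨f, hf⟩ := card_dvd_of_free hfree
    refine ⟨f, ?_⟩
    rw [he, ← hf]
    have : Fintype A := Fintype.ofFinite _
    rw [Nat.card_eq_fintype_card, Nat.card_eq_fintype_card, Fintype.card_subtype_compl,
      Fintype.card_subtype_eq]
    have := Fintype.card_pos (α := A)
    omega

open scoped Classical in
/-- Every prime divisor of `q² - q + 1` is the order of a real element. -/
theorem exists_real [Fintype G]
    (hup : 3 * k * (Finset.univ.filter fun x : G =>
      IsSix (3 * k * (9 * k ^ 2 - 1)) x ∧ IsReal x).card ≤ (k + 2) * Nat.card G)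
    (hlo : k * Nat.card G ≤ ∑ x ∈ Finset.univ.filter fun x : G =>
      IsSix (3 * k * (9 * k ^ 2 - 1)) x ∧ IsReal x, Nat.card (centralizer ({x} : Set G)))
    (hhi : ∑ x ∈ (Finset.univ.filter fun x : G =>
      IsSix (3 * k * (9 * k ^ 2 - 1)) x ∧ IsReal x), Nat.card (centralizer ({x} : Set G)) <
        (k + 2) * Nat.card G)
    {r : ℕ} (hr : r.Prime) (hrd : r ∣ 9 * k ^ 2 + 1 - 3 * k) :
    ∃ x : G, orderOf x = r ∧ IsReal x := by
  by_contra hno
  push Not at hno
  set W := Finset.univ.filter fun x : G => IsSix (3 * k * (9 * k ^ 2 - 1)) x ∧ IsReal x with hW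
  set w : G → ℕ := fun x => Nat.card (centralizer ({x} : Set G)) with hw
  set Φ := 9 * k ^ 2 + 1 - 3 * k with hΦ
  have hk := S.hk
  have hk2 : 3 * k ≤ 9 * k ^ 2 := by nlinarith
  have hW' : ∀ x ∈ W, IsSix (3 * k * (9 * k ^ 2 - 1)) x ∧ IsReal x := fun x hx =>
    (Finset.mem_filter.1 hx).2
  -- `r` avoids all these centralizers
  have hrw : ∀ x ∈ W, ¬ r ∣ w x := by
    intro x hx hd
    have := Fact.mk hr
    obtain ⟨a, ha⟩ := exists_prime_orderOf_dvd_card' r hd
    rw [← Subgroup.orderOf_coe] at ha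
    exact hno a ha (S.cent_eq (hW' x hx).1 (hW' x hx).2 a.2
      (fun e => hr.ne_one (by rw [← ha, e, orderOf_one]))).2.1
  have hG0 : 0 < Nat.card G := Nat.card_pos
  -- a large centralizer
  obtain ⟨x, hxW, hbig⟩ : ∃ x ∈ W, 3 * k ^ 2 ≤ w x * (k + 2) := by
    by_contra hcon
    push Not at hcon
    have hne : W.Nonempty := by
      rw [Finset.nonempty_iff_ne_empty]
      intro h
      rw [h, Finset.sum_empty] at hlo
      nlinarith
    have h1 : ∑ x ∈ W, w x * (k + 2) < ∑ _x ∈ W, 3 * k ^ 2 := Finset.sum_lt_sum_of_nonempty hne hcon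
    rw [← Finset.sum_mul, Finset.sum_const, smul_eq_mul] at h1
    nlinarith
  obtain ⟨hx, s, hs, hsx⟩ := hW' x hxW
  have hrx : IsReal x := ⟨s, hs, hsx⟩
  set A := centralizer ({x} : Set G) with hA
  set N := normalizer (A : Set G) with hN
  obtain ⟨hediv, he2, he4, f, hf⟩ := S.automizer hx hs hsx
  obtain ⟨j, hj⟩ := S.index_modEq hx hrx hediv
  set e := A.relIndex N with he
  obtain ⟨hcop, hmd⟩ := S.card_dvd_phi hx hrx
  obtain ⟨C, hC⟩ := hmd
  have hrC : r ∣ C := by
    rcases hr.dvd_mul.1 (show r ∣ _ * C by rw [← hC]; exact hrd) with h | h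
    · exact absurd h (hrw x hxW)
    · exact h
  have hC0 : 0 < C := by
    rcases Nat.eq_zero_or_pos C with h | h
    · rw [h, mul_zero] at hC; omega
    · exact h
  have hC7 : 7 ≤ C := (prime_ge_seven hr hrd).trans (Nat.le_of_dvd hC0 hrC)
  have hGu : Nat.card G = N.index * e * Nat.card A := by
    rw [mul_assoc, he, mul_comm (A.relIndex N), ← A.card_mul_index,
      ← relIndex_mul_index (le_normalizer : A ≤ N)]
    ring
  -- the class of `A`
  let ψ : (G ⧸ N) × {a : A // a ≠ 1} → G := fun p => p.1.out * (p.2.1 : G) * p.1.out⁻¹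
  have hψinj : Function.Injective ψ := by
    rintro ⟨c, ⟨⟨a, ha⟩, ha1⟩⟩ ⟨d, ⟨⟨b, hb⟩, hb1⟩⟩ h
    replace h : c.out * a * c.out⁻¹ = d.out * b * d.out⁻¹ := h
    have ha1' : a ≠ 1 := fun e => ha1 (Subtype.ext e)
    have hb1' : b ≠ 1 := fun e => hb1 (Subtype.ext e)
    set g := d.out⁻¹ * c.out with hg
    have hgab : g * a * g⁻¹ = b := by
      rw [hg, mul_inv_rev, inv_inv]
      calc d.out⁻¹ * c.out * a * (c.out⁻¹ * d.out) = d.out⁻¹ * (c.out * a * c.out⁻¹) * d.out := by group
        _ = b := by rw [h]; group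
    obtain ⟨-, -, ea⟩ := S.cent_eq hx hrx ha ha1'
    obtain ⟨-, -, eb⟩ := S.cent_eq hx hrx hb hb1'
    have hgN : g ∈ N := by
      rw [hN, mem_normalizer_iff]
      intro z
      rw [hA]
      constructor
      · intro hz
        rw [← ea, mem_centralizer_singleton_iff] at hz
        rw [← eb, mem_centralizer_singleton_iff, ← hgab]
        calc g * z * g⁻¹ * (g * a * g⁻¹) = g * (z * a) * g⁻¹ := by group
          _ = g * a * g⁻¹ * (g * z * g⁻¹) := by rw [hz]; group
      · intro hz
        rw [← eb, mem_centralizer_singleton_iff, ← hgab] at hz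
        rw [← ea, mem_centralizer_singleton_iff]
        calc z * a = g⁻¹ * (g * z * g⁻¹ * (g * a * g⁻¹)) * g := by group
          _ = a * z := by rw [hz]; group
    have hcd : d = c := by
      rw [← QuotientGroup.out_eq' c, ← QuotientGroup.out_eq' d, QuotientGroup.eq]
      exact hgN
    subst hcd
    have hab : a = b := mul_left_cancel (mul_right_cancel h)
    subst hab
    rfl
  set Cl := Finset.univ.image ψ with hCl
  have hClW : Cl ⊆ W := by
    intro y hy
    obtain ⟨⟨c, a⟩, -, rfl⟩ := Finset.mem_image.1 hy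
    obtain ⟨h1, h2, -⟩ := S.cent_eq hx hrx a.1.2 (fun e => a.2 (Subtype.ext e))
    exact Finset.mem_filter.2 ⟨Finset.mem_univ _, h1.conj _, h2.conj _⟩
  have hClw : ∀ y ∈ Cl, w y = Nat.card A := by
    intro y hy
    obtain ⟨⟨c, a⟩, -, rfl⟩ := Finset.mem_image.1 hy
    obtain ⟨-, -, h3⟩ := S.cent_eq hx hrx a.1.2 (fun e => a.2 (Subtype.ext e))
    rw [← hA] at h3
    show Nat.card (centralizer ({c.out * (a.1 : G) * c.out⁻¹} : Set G)) = _
    conv_rhs => rw [← h3]
    refine Nat.card_congr ((MulAut.conj c.out⁻¹).toEquiv.subtypeEquiv fun z => ?_)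
    rw [mem_centralizer_singleton_iff, mem_centralizer_singleton_iff]
    show _ ↔ MulAut.conj c.out⁻¹ z * _ = _ * MulAut.conj c.out⁻¹ z
    rw [MulAut.conj_apply, inv_inv]
    constructor
    · intro h
      calc c.out⁻¹ * z * c.out * a.1 = c.out⁻¹ * (z * (c.out * a.1 * c.out⁻¹)) * c.out := by group
        _ = _ := by rw [h]; group
    · intro h
      calc z * (c.out * a.1 * c.out⁻¹) = c.out * (c.out⁻¹ * z * c.out * a.1) * c.out⁻¹ := by group
        _ = _ := by rw [h]; group
  have hClcard : Cl.card = N.index * (e * f) := by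
    rw [hCl, Finset.card_image_of_injective _ hψinj, Finset.card_univ, Fintype.card_prod,
      Fintype.card_subtype_compl, Fintype.card_subtype_eq, ← Nat.card_eq_fintype_card (α := G ⧸ N),
      ← Nat.card_eq_fintype_card (α := A), ← Subgroup.index, hf]
    rw [Nat.add_sub_cancel]
  have hClsum : ∑ y ∈ Cl, w y = f * Nat.card G := by
    rw [Finset.sum_congr rfl hClw, Finset.sum_const, smul_eq_mul, hClcard, hGu]
    ring
  have hrest : ∀ y ∈ W \ Cl, w y * 7 ≤ C := by
    intro y hy
    obtain ⟨hyW, hyC⟩ := Finset.mem_sdiff.1 hy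
    obtain ⟨hy6, hyr⟩ := hW' y hyW
    obtain ⟨hyc, hyd⟩ := S.card_dvd_phi hy6 hyr
    have hcp : (Nat.card A).Coprime (w y) := by
      refine S.coprime_cards hx hrx hy6 hyr fun g hg => hyC ?_
      have hy1 : g * y * g⁻¹ ≠ 1 := fun e => hy6.1 (conj_eq_one_iff.1 e)
      have hgN : ((g⁻¹ : G) : G ⧸ N).out⁻¹ * g⁻¹ ∈ N :=
        QuotientGroup.eq.1 (QuotientGroup.out_eq' ((g⁻¹ : G) : G ⧸ N))
      set c := ((g⁻¹ : G) : G ⧸ N) with hc
      have ha : (c.out⁻¹ * g⁻¹) * (g * y * g⁻¹) * (c.out⁻¹ * g⁻¹)⁻¹ ∈ A :=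
        (mem_normalizer_iff.1 hgN _).1 hg
      refine Finset.mem_image.2 ⟨⟨c, ⟨⟨_, ha⟩, fun e => hy1 (conj_eq_one_iff.1 (congrArg Subtype.val e))⟩⟩,
        Finset.mem_univ _, ?_⟩
      show c.out * _ * c.out⁻¹ = y
      group
    have hd : w y ∣ C := hcp.symm.dvd_of_dvd_mul_left (show w y ∣ _ * C by rw [← hC]; exact hyd)
    obtain ⟨i, rfl⟩ := hd
    have hri : r ∣ i := (hr.dvd_mul.1 hrC).resolve_left (hrw y hyW)
    have hi0 : 0 < i := Nat.pos_of_ne_zero fun h => by rw [h, mul_zero] at hC0; omega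
    exact Nat.mul_le_mul_left _ ((prime_ge_seven hr hrd).trans (Nat.le_of_dvd hi0 hri))
  have hsplit : (∑ y ∈ W \ Cl, w y) + f * Nat.card G = ∑ y ∈ W, w y := by
    rw [← hClsum]; exact Finset.sum_sdiff hClW
  have hrestsum : (∑ y ∈ W \ Cl, w y) * 7 ≤ C * W.card := by
    rw [Finset.sum_mul]
    calc ∑ y ∈ W \ Cl, w y * 7 ≤ ∑ _y ∈ W \ Cl, C := Finset.sum_le_sum hrest
      _ = (W \ Cl).card * C := by rw [Finset.sum_const, smul_eq_mul]
      _ ≤ C * W.card := by rw [mul_comm]; exact Nat.mul_le_mul_left _ (Finset.card_le_card Finset.sdiff_subset)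
  have hfk : f ≤ k + 1 := by
    have : f * Nat.card G < (k + 2) * Nat.card G := lt_of_le_of_lt ((Nat.le_add_left _ _).trans hsplit.le) hhi
    have := Nat.lt_of_mul_lt_mul_right this
    omega
  have hδ : 21 * (k : ℤ) * ((k : ℤ) - f) ≤ C * (k + 2) := by
    have h1 : (21 * k * (k * Nat.card G) : ℕ) ≤ 21 * k * (f * Nat.card G) + C * (k + 2) * Nat.card G := by
      calc 21 * k * (k * Nat.card G) ≤ 21 * k * ((∑ y ∈ W \ Cl, w y) + f * Nat.card G) := by
            rw [hsplit]; exact Nat.mul_le_mul_left _ hlo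
        _ = 3 * k * ((∑ y ∈ W \ Cl, w y) * 7) + 21 * k * (f * Nat.card G) := by ring
        _ ≤ 3 * k * (C * W.card) + 21 * k * (f * Nat.card G) := by gcongr
        _ = C * (3 * k * W.card) + 21 * k * (f * Nat.card G) := by ring
        _ ≤ C * ((k + 2) * Nat.card G) + 21 * k * (f * Nat.card G) := by gcongr
        _ = _ := by ring
    have h2 : 21 * k * k ≤ 21 * k * f + C * (k + 2) := by
      refine Nat.le_of_mul_le_mul_right ?_ hG0
      calc 21 * k * k * Nat.card G = 21 * k * (k * Nat.card G) := by ring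
        _ ≤ _ := h1
        _ = _ := by ring
    have h3 : ((21 * k * k : ℕ) : ℤ) ≤ ((21 * k * f + C * (k + 2) : ℕ) : ℤ) := by exact_mod_cast h2
    push_cast at h3
    linarith
  refine false_of_class (k := k) (e := e) (f := f) (m := Nat.card A) (C := C) hk hf ?_ hC7 he2 he4
    hediv ?_ hbig hδ hfk
  · rw [← hC]; omega
  · have hm0 : (Nat.card A : ℕ) ≠ 0 := Nat.card_pos.ne'
    have hG' : (3 * k) ^ 3 * (9 * k ^ 2 - 1) * C = N.index * e := by
      refine Nat.eq_of_mul_eq_mul_right (Nat.pos_of_ne_zero hm0) ?_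
      rw [← hGu, S.hcard, hC]; ring
    rw [hj] at hG'
    have h1 : (((3 * k) ^ 3 * (9 * k ^ 2 - 1) * C : ℕ) : ℤ) = (((Nat.card A * j + 1) * e : ℕ) : ℤ) := by
      rw [hG']
    rw [Nat.cast_mul, Nat.cast_mul, Nat.cast_sub (by nlinarith)] at h1
    push_cast at h1
    have hΦz : (Nat.card A : ℤ) * C = 9 * (k : ℤ) ^ 2 + 1 - 3 * k := by
      have : ((Nat.card A * C : ℕ) : ℤ) = ((9 * k ^ 2 + 1 - 3 * k : ℕ) : ℤ) := by rw [← hC]
      rw [Nat.cast_sub (by omega)] at this
      push_cast at this
      exact this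
    refine ⟨-(j : ℤ) * e + C * (27 * (k : ℤ) ^ 3 + 9 * k ^ 2 - 3 * k - 2) * C, ?_⟩
    linear_combination -h1 - (C : ℤ) * (27 * (k : ℤ) ^ 3 + 9 * (k : ℤ) ^ 2 - 3 * k - 2) * hΦz

end Setting

end CfsgLib.ReeReal
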