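import Cfsg.Agent.Lib.ReeReal.Class

/-!
Counting pairs of involutions in a group of Ree order.
-/

set_option autoImplicit false

namespace CfsgLib.ReeReal

open Subgroup
open scoped Classical

universe u

variable {G : Type u} [Group G] [Fintype G]

/-- The involutions inverting `g` other than `g` itself: the pairs of involutions with product `g`. -/
noncomputable def inverters (g : G) : Finset G :=
  Finset.univ.filter fun s => orderOf s = 2 ∧ s * g * s = g⁻¹ ∧ s ≠ g

/-- An element of the torus of order `b`. -/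
def IsTor (b : ℕ) (y : G) : Prop := y ≠ 1 ∧ y ^ b = 1

/-- The local data of a group of Ree order, `q = 3 k`, with tori of orders `b` and `a`. -/
structure Counts (G : Type u) [Group G] [Fintype G] (k a b : ℕ) : Prop where
  set_ : Setting G k
  hb : 2 * b + 1 = 3 * k
  ha : 4 * a = 3 * k + 1
  hinv : (Finset.univ.filter fun s : G => orderOf s = 2).card = (3 * k) ^ 2 * (9 * k ^ 2 + 1 - 3 * k)
  hclass : ∀ u y s : G, orderOf u = 2 → orderOf s = 2 → y ≠ 1 → Odd (orderOf y) → Commute u y →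
    Commute u s → s * y * s = y⁻¹ → IsTor b y ∨ IsTor a y
  hcentB : ∀ y g : G, IsTor b y → Commute g y → g ^ (2 * b) = 1
  hcentA : ∀ y g : G, IsTor a y → Commute g y → g ^ (2 * a) = 1
  honeB : ∀ y : G, IsTor b y →
    (Finset.univ.filter fun t : G => orderOf t = 2 ∧ Commute t y).card = 1
  hthreeA : ∀ y : G, IsTor a y →
    (Finset.univ.filter fun t : G => orderOf t = 2 ∧ Commute t y).card = 3
  hfixA : ∀ y s t : G, IsTor a y → orderOf s = 2 → s * y * s = y⁻¹ → orderOf t = 2 → Commute t y →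
    Commute s t
  hinvB : ∀ y : G, IsTor b y → (inverters y).card = 3 * k - 1
  hinvA : ∀ y : G, IsTor a y → (inverters y).card = 3 * k + 1
  hinvI : ∀ u : G, orderOf u = 2 → (inverters u).card = 3 * k * (3 * k - 1)
  hnumB : ∀ t : G, orderOf t = 2 →
    2 * (Finset.univ.filter fun y : G => IsTor b y ∧ Commute t y).card = 3 * k * (3 * k + 1) * (b - 1)
  hnumA : ∀ t : G, orderOf t = 2 →
    2 * (Finset.univ.filter fun y : G => IsTor a y ∧ Commute t y).card = 3 * k * (3 * k - 1) * (a - 1)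
  hthree : ∀ s : G, orderOf s = 2 →
    (Finset.univ.filter fun g : G => s * g * s = g⁻¹ ∧ Odd (orderOf g) ∧ 3 ∣ orderOf g).card ≤
      (3 * k + 1) * (9 * k ^ 2 - 1)

theorem mem_inverters {g s : G} : s ∈ inverters g ↔ orderOf s = 2 ∧ s * g * s = g⁻¹ ∧ s ≠ g := by
  simp [inverters]

/-- Pairs of involutions, sorted by their product. -/
theorem sum_inverters :
    ∑ g : G, (inverters g).card = (Finset.univ.filter fun s : G => orderOf s = 2).card ^ 2 := by
  rw [← Finset.card_sigma, pow_two, ← Finset.card_product]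
  refine Finset.card_bij (fun p _ => (p.2, p.2 * p.1)) ?_ ?_ ?_
  · rintro ⟨g, s⟩ hp
    obtain ⟨-, h⟩ := Finset.mem_sigma.1 hp
    obtain ⟨hs, hsg, hne⟩ := mem_inverters.1 h
    refine Finset.mem_product.2 ⟨by simpa using hs, ?_⟩
    simp only [Finset.mem_filter, Finset.mem_univ, true_and]
    refine orderOf_eq_prime ?_ fun e => hne ?_
    · rw [pow_two, ← mul_assoc, hsg, inv_mul_cancel]
    · rw [← inv_eq_of_mul_eq_one_right e, inv_eq_of_mul_eq_one_right (mul_self_of_two hs)]
  · rintro ⟨g, s⟩ - ⟨g', s'⟩ - h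
    simp only [Prod.mk.injEq] at h
    obtain ⟨rfl, h2⟩ := h
    rw [mul_left_cancel h2]
  · rintro ⟨s, s'⟩ hp
    simp only [Finset.mem_product, Finset.mem_filter, Finset.mem_univ, true_and] at hp
    have h1 := mul_self_of_two hp.1
    have h2 := mul_self_of_two hp.2
    refine ⟨⟨s * s', s⟩, Finset.mem_sigma.2 ⟨Finset.mem_univ _, mem_inverters.2 ⟨hp.1, ?_, ?_⟩⟩, ?_⟩
    · rw [mul_inv_rev, inv_eq_of_mul_eq_one_right h1, inv_eq_of_mul_eq_one_right h2, ← mul_assoc, h1,
        one_mul]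
    · intro e
      have : s' = 1 := by
        have e' := congrArg (fun z => s * z) e
        simp only [← mul_assoc, h1, one_mul] at e'
        exact e'.symm
      rw [this, orderOf_one] at hp
      exact absurd hp.2 (by norm_num)
    · simp only [Prod.mk.injEq, true_and]
      rw [← mul_assoc, h1, one_mul]

namespace Counts

variable {k a b : ℕ} (D : Counts G k a b)
include D

theorem coprime_six {x : G} {c : ℕ} (hc : c ∣ 3 * k * (9 * k ^ 2 - 1))
    (hx : IsSix (3 * k * (9 * k ^ 2 - 1)) x) : ¬ IsTor c x := fun h =>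
  hx.1 (orderOf_eq_one_iff.1 (Nat.eq_one_of_dvd_coprimes hx.2 dvd_rfl
    ((orderOf_dvd_of_pow_eq_one h.2).trans hc)))

theorem b_dvd : b ∣ 3 * k * (9 * k ^ 2 - 1) := by
  refine Dvd.dvd.mul_left ⟨2 * (3 * k + 1), ?_⟩ _
  have := D.hb
  have : 1 ≤ 9 * k ^ 2 := by nlinarith [D.set_.hk]
  zify [this]
  have hbz : (2 : ℤ) * b + 1 = 3 * k := by exact_mod_cast D.hb
  linear_combination (-(3 * (k : ℤ) + 1)) * hbz

theorem a_dvd : a ∣ 3 * k * (9 * k ^ 2 - 1) := by
  refine Dvd.dvd.mul_left ⟨4 * (3 * k - 1), ?_⟩ _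
  have h1 : 1 ≤ 9 * k ^ 2 := by nlinarith [D.set_.hk]
  have h2 : 1 ≤ 3 * k := by have := D.set_.hk; omega
  zify [h1, h2]
  have haz : (4 : ℤ) * a = 3 * k + 1 := by exact_mod_cast D.ha
  linear_combination (-(3 * (k : ℤ) - 1)) * haz

theorem odd_tor {c : ℕ} (hc : Odd c) {y : G} (h : IsTor c y) : Odd (orderOf y) :=
  hc.of_dvd_nat (orderOf_dvd_of_pow_eq_one h.2)

omit D in
/-- An element is split by an involution it commutes with. -/
theorem split_unique {t t' y y' : G} (ht : orderOf t = 2) (ht' : orderOf t' = 2) (hy : Odd (orderOf y))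
    (hy' : Odd (orderOf y')) (hc : Commute t y) (hc' : Commute t' y') (e : t * y = t' * y') :
    t = t' ∧ y = y' := by
  have key : ∀ u z : G, orderOf u = 2 → Odd (orderOf z) → Commute u z →
      ∀ N : ℕ, Odd N → z ^ N = 1 → (u * z) ^ N = u := by
    intro u z hu _ huz N hN hzN
    rw [huz.mul_pow, hzN, mul_one]
    obtain ⟨i, rfl⟩ := hN
    rw [pow_succ, pow_mul, pow_two, mul_self_of_two hu, one_pow, one_mul]
  have hN : Odd (orderOf y * orderOf y') := hy.mul hy'
  have h1 := key t y ht hy hc _ hN (by rw [pow_mul, pow_orderOf_eq_one, one_pow])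
  have h2 := key t' y' ht' hy' hc' _ hN (by rw [mul_comm, pow_mul, pow_orderOf_eq_one, one_pow])
  rw [e, h2] at h1
  subst h1
  exact ⟨rfl, mul_left_cancel e⟩

omit D in
theorem not_tor_inv {c : ℕ} (hc : Odd c) {x : G} (h : orderOf x = 2) : ¬ IsTor c x := fun h' => by
  have h2 := hc.of_dvd_nat (orderOf_dvd_of_pow_eq_one h'.2)
  rw [h] at h2
  exact absurd h2 (by decide)

/-- The number of torus elements and the pairs over them. -/
theorem sum_mul_elements {c n₁ : ℕ} (hc : Odd c) {w : ℕ}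
    (hcount : ∀ y : G, IsTor c y → (Finset.univ.filter fun t : G => orderOf t = 2 ∧ Commute t y).card = n₁)
    (hw : ∀ y t : G, IsTor c y → orderOf t = 2 → Commute t y → (inverters (t * y)).card = w)
    {N : ℕ} (hN : ∀ t : G, orderOf t = 2 →
      2 * (Finset.univ.filter fun y : G => IsTor c y ∧ Commute t y).card = N) :
    ∃ S : Finset G, (∀ g ∈ S, ∃ t y : G, orderOf t = 2 ∧ IsTor c y ∧ Commute t y ∧ g = t * y) ∧
      (∀ t y : G, orderOf t = 2 → IsTor c y → Commute t y → t * y ∈ S) ∧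
      2 * S.card = (Finset.univ.filter fun s : G => orderOf s = 2).card * N ∧
      S.card = n₁ * (Finset.univ.filter fun y : G => IsTor c y).card ∧
      ∑ g ∈ S, (inverters g).card = w * S.card := by
  set P : Finset (Σ _t : G, G) := (Finset.univ.filter fun s : G => orderOf s = 2).sigma
    fun t => Finset.univ.filter fun y : G => IsTor c y ∧ Commute t y with hP
  set f : (Σ _t : G, G) → G := fun p => p.1 * p.2
  have hmem : ∀ p, p ∈ P ↔ orderOf p.1 = 2 ∧ IsTor c p.2 ∧ Commute p.1 p.2 := by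
    intro p; simp [hP]
  have hinj : Set.InjOn f ↑P := by
    rintro ⟨t, y⟩ hp ⟨t', y'⟩ hp' e
    obtain ⟨h1, h2, h3⟩ := (hmem _).1 hp
    obtain ⟨h1', h2', h3'⟩ := (hmem _).1 hp'
    obtain ⟨rfl, rfl⟩ := split_unique h1 h1' (D.odd_tor hc h2) (D.odd_tor hc h2') h3 h3' e
    rfl
  refine ⟨P.image f, ?_, ?_, ?_, ?_, ?_⟩
  · intro g hg
    obtain ⟨⟨t, y⟩, hp, rfl⟩ := Finset.mem_image.1 hg
    exact ⟨t, y, ((hmem _).1 hp).1, ((hmem _).1 hp).2.1, ((hmem _).1 hp).2.2, rfl⟩
  · exact fun t y h1 h2 h3 => Finset.mem_image.2 ⟨⟨t, y⟩, (hmem _).2 ⟨h1, h2, h3⟩, rfl⟩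
  · rw [Finset.card_image_of_injOn hinj, hP, Finset.card_sigma, Finset.mul_sum,
      Finset.sum_congr rfl (fun t ht => hN t (Finset.mem_filter.1 ht).2), Finset.sum_const, smul_eq_mul]
  · rw [Finset.card_image_of_injOn hinj, hP, Finset.card_sigma]
    simp only [Finset.card_filter (fun y : G => IsTor c y ∧ Commute _ y)]
    rw [Finset.sum_comm, Finset.card_filter, Finset.mul_sum]
    refine Finset.sum_congr rfl fun y _ => ?_
    by_cases hy : IsTor c y
    · simp only [hy, true_and, if_true, mul_one]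
      rw [← hcount y hy, Finset.sum_boole, Finset.filter_filter]
      simp
    · simp [hy]
  · rw [mul_comm w, ← smul_eq_mul, ← Finset.sum_const]
    refine Finset.sum_congr rfl fun g hg => ?_
    obtain ⟨⟨t, y⟩, hp, rfl⟩ := Finset.mem_image.1 hg
    exact hw y t ((hmem _).1 hp).2.1 ((hmem _).1 hp).1 ((hmem _).1 hp).2.2

theorem coprime_ab : a.Coprime b := by
  refine Nat.coprime_of_dvd fun p hp ha hb => ?_
  obtain ⟨i, hi⟩ := ha
  obtain ⟨j, hj⟩ := hb
  have h1 := D.ha
  have h2 := D.hb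
  have hodd : Odd b := by
    rcases Nat.even_or_odd b with ⟨i', hi'⟩ | h
    · exfalso; omega
    · exact h
  have hd : p ∣ 2 := by
    have h : 4 * a = 2 * b + 2 := by omega
    have h' : p ∣ 2 * b + 2 := ⟨4 * i, by rw [← h, hi]; ring⟩
    exact (Nat.dvd_add_right ⟨2 * j, by rw [hj]; ring⟩).1 h'
  obtain rfl := (Nat.prime_dvd_prime_iff_eq hp Nat.prime_two).1 hd
  exact absurd (hodd.of_dvd_nat ⟨j, hj⟩) (by decide)

theorem odd_b : Odd b := by
  have := D.hb
  have := D.ha
  rcases Nat.even_or_odd b with ⟨i', hi'⟩ | h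
  · exfalso; omega
  · exact h

theorem odd_a : Odd a := by
  rcases Nat.even_or_odd a with ⟨i, hi⟩ | h
  · exfalso
    have h1 := D.ha
    have h2 : ∀ n : ℕ, 0 < n → (∀ p : ℕ, p.Prime → p ∣ n → p = 3) → n % 8 = 1 ∨ n % 8 = 3 := by
      intro n hn hp
      induction n using Nat.strong_induction_on with
      | _ n ih =>
        rcases eq_or_ne n 1 with rfl | hn1
        · exact Or.inl rfl
        · obtain ⟨p, hp', hpd⟩ := Nat.exists_prime_and_dvd hn1
          obtain rfl := hp p hp' hpd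
          obtain ⟨m, rfl⟩ := hpd
          have := ih m (by omega) (by omega) fun q hq hd => hp q hq (hd.mul_left 3)
          omega
    have := h2 k (by have := D.set_.hk; omega) D.set_.hdiv
    omega
  · exact h

/-- The inverters of `t * y` are those of `y`. -/
theorem inverters_mul {c : ℕ} (hc : Odd c) {y t : G} (hy : IsTor c y) (ht : orderOf t = 2)
    (hty : Commute t y)
    (hfix : ∀ s : G, orderOf s = 2 → s * y * s = y⁻¹ → Commute s t) : inverters (t * y) = inverters y := by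
  have hyo := D.odd_tor hc hy
  ext s
  rw [mem_inverters, mem_inverters]
  constructor
  · rintro ⟨hs, h, -⟩
    have hss := mul_self_of_two hs
    have hsi : s⁻¹ = s := inv_eq_of_mul_eq_one_right hss
    have e : s * t * s * (s * y * s) = t * y⁻¹ := by
      rw [show s * t * s * (s * y * s) = s * t * (s * s) * y * s by group, hss, mul_one, mul_assoc s t y, h,
        mul_inv_rev, inv_eq_of_mul_eq_one_right (mul_self_of_two ht)]
      exact (hty.symm.inv_left).eq
    have h' := split_unique (t := s * t * s) (y := s * y * s) ?_ ht ?_ (by rwa [orderOf_inv]) ?_ hty.inv_right e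
    · exact ⟨hs, h'.2, fun e' => by rw [e'] at hs; exact not_tor_inv hc hs hy⟩
    · have := (MulAut.conj s).orderOf_eq t
      rw [MulAut.conj_apply, hsi] at this
      rw [this, ht]
    · have := (MulAut.conj s).orderOf_eq y
      rw [MulAut.conj_apply, hsi] at this
      rwa [this]
    · show s * t * s * (s * y * s) = s * y * s * (s * t * s)
      calc s * t * s * (s * y * s) = s * t * (s * s) * y * s := by group
        _ = s * y * (s * s) * t * s := by rw [hss, mul_one, mul_one, mul_assoc s t, hty.eq, mul_assoc s y]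
        _ = _ := by group
  · rintro ⟨hs, h, -⟩
    have hst := hfix s hs h
    refine ⟨hs, ?_, fun e => ?_⟩
    · rw [mul_inv_rev, inv_eq_of_mul_eq_one_right (mul_self_of_two ht), ← mul_assoc, hst.eq,
        mul_assoc t s, mul_assoc t, h]
      exact hty.inv_right.eq
    · rw [e] at hs
      have := split_unique (t := t * y) (y := (1 : G)) hs ht (by rw [orderOf_one]; exact odd_one) hyo
        (Commute.one_right _) hty (mul_one _)
      exact hy.1 this.2.symm

/-- Sorting an element inverted by an involution. -/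
theorem cases_inverted {s g : G} (hs : orderOf s = 2) (hsg : s * g * s = g⁻¹) :
    g = 1 ∨ orderOf g = 2 ∨ IsTor b g ∨ IsTor a g ∨
    (∃ t y, orderOf t = 2 ∧ IsTor b y ∧ Commute t y ∧ g = t * y) ∨
    (∃ t y, orderOf t = 2 ∧ IsTor a y ∧ Commute t y ∧ g = t * y) ∨
    (IsSix (3 * k * (9 * k ^ 2 - 1)) g ∧ IsReal g) ∨ (Odd (orderOf g) ∧ 3 ∣ orderOf g) := by
  by_cases hg : g = 1
  · exact Or.inl hg
  have hss := mul_self_of_two hs
  have hsi : s⁻¹ = s := inv_eq_of_mul_eq_one_right hss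
  have hpow : ∀ i : ℕ, s * g ^ i * s = (g ^ i)⁻¹ := by
    intro i
    have := congrArg (fun z => z ^ i) hsg
    simp only [inv_pow] at this
    rw [← this]
    have e := (conj_pow (i := i) (a := s) (b := g)).symm
    rw [hsi] at e
    exact e
  rcases Nat.even_or_odd (orderOf g) with ⟨r, hr⟩ | hodd
  · have hrodd : Odd r := by
      rcases Nat.even_or_odd r with ⟨i, hi⟩ | h
      · exfalso
        have h4 : g ^ i * g ^ i * (g ^ i * g ^ i) = 1 := by
          rw [← pow_add, ← pow_add, show i + i + (i + i) = orderOf g by omega, pow_orderOf_eq_one]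
        have h2 := D.set_.hfour _ h4
        rw [← pow_add] at h2
        have hpos := orderOf_pos g
        have hle : orderOf g ≤ i + i := Nat.le_of_dvd (by omega) (orderOf_dvd_of_pow_eq_one h2)
        omega
      · exact h
    have hu : orderOf (g ^ r) = 2 := by
      refine orderOf_eq_prime (by rw [← pow_mul, show r * 2 = orderOf g by omega, pow_orderOf_eq_one]) ?_
      intro e
      have := Nat.le_of_dvd (by obtain ⟨i, rfl⟩ := hrodd; omega) (orderOf_dvd_of_pow_eq_one e)
      have := orderOf_pos g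
      omega
    have hgu : g = g ^ r * g ^ (r + 1) := by
      rw [← pow_add, show r + (r + 1) = orderOf g + 1 by omega, pow_succ, pow_orderOf_eq_one, one_mul]
    by_cases hy : g ^ (r + 1) = 1
    · rw [hy, mul_one] at hgu
      exact Or.inr (Or.inl (by rw [hgu, hu]))
    have hyo : Odd (orderOf (g ^ (r + 1))) := by
      refine hrodd.of_dvd_nat (orderOf_dvd_of_pow_eq_one ?_)
      obtain ⟨i, rfl⟩ := hrodd
      rw [← pow_mul, show (2 * i + 1 + 1) * (2 * i + 1) = orderOf g * (i + 1) by rw [hr]; ring, pow_mul,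
        pow_orderOf_eq_one, one_pow]
    have hcu : Commute (g ^ r) s := by
      show g ^ r * s = s * g ^ r
      have h := hpow r
      rw [inv_eq_of_mul_eq_one_right (mul_self_of_two hu)] at h
      calc g ^ r * s = s * g ^ r * s * s := by rw [h]
        _ = s * g ^ r := by rw [mul_assoc, hss, mul_one]
    have hc : Commute (g ^ r) (g ^ (r + 1)) := (Commute.refl g).pow_pow _ _
    rcases D.hclass _ _ s hu hs hy hyo hc hcu (hpow _) with h | h
    · exact Or.inr (Or.inr (Or.inr (Or.inr (Or.inl ⟨_, _, hu, h, hc, hgu⟩))))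
    · exact Or.inr (Or.inr (Or.inr (Or.inr (Or.inr (Or.inl ⟨_, _, hu, h, hc, hgu⟩)))))
  by_cases h3 : 3 ∣ orderOf g
  · exact Or.inr (Or.inr (Or.inr (Or.inr (Or.inr (Or.inr (Or.inr ⟨hodd, h3⟩))))))
  by_cases hcop : (orderOf g).Coprime (3 * k * (9 * k ^ 2 - 1))
  · exact Or.inr (Or.inr (Or.inr (Or.inr (Or.inr (Or.inr (Or.inl ⟨⟨hg, hcop⟩, s, hs, hsg⟩))))))
  obtain ⟨p, hp, hpg, hpn⟩ := Nat.Prime.not_coprime_iff_dvd.1 hcop
  have := Fact.mk hp
  have hp3 : p ≠ 3 := fun e => h3 (e ▸ hpg)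
  have hp2 : p ≠ 2 := fun e => absurd (hodd.of_dvd_nat (e ▸ hpg)) (by decide)
  have hpab : p ∣ b ∨ p ∣ a := by
    have h : p ∣ 9 * k ^ 2 - 1 := by
      rcases hp.dvd_mul.1 hpn with h | h
      · rcases hp.dvd_mul.1 h with h | h
        · exact absurd ((Nat.prime_dvd_prime_iff_eq hp Nat.prime_three).1 h) hp3
        · exact absurd (D.set_.hdiv p hp h) hp3
      · exact h
    have he : 9 * k ^ 2 - 1 = (2 * b) * (4 * a) := by
      have h1 := D.hb
      have h2 := D.ha
      have : 9 * k ^ 2 = (2 * b) * (4 * a) + 1 := by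
        zify
        have hbz : (2 : ℤ) * b = 3 * k - 1 := by omega
        have haz : (4 : ℤ) * a = 3 * k + 1 := by omega
        rw [hbz, haz]; ring
      omega
    rw [he] at h
    have h' : ¬ p ∣ 2 := fun h' => hp2 ((Nat.prime_dvd_prime_iff_eq hp Nat.prime_two).1 h')
    rcases hp.dvd_mul.1 h with h | h
    · exact Or.inl ((hp.dvd_mul.1 h).resolve_left h')
    · refine Or.inr ((hp.dvd_mul.1 h).resolve_left fun h4 => h' ?_)
      exact hp.dvd_of_dvd_pow (n := 2) h4
  obtain ⟨z, hzp, hzc⟩ : ∃ z : G, orderOf z = p ∧ Commute g z := by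
    refine ⟨g ^ (orderOf g / p), ?_, (Commute.refl g).pow_right _⟩
    exact orderOf_pow_orderOf_div (orderOf_pos g).ne' hpg
  have hz1 : z ≠ 1 := fun e => hp.ne_one (by rw [← hzp, e, orderOf_one])
  rcases hpab with h | h
  · refine Or.inr (Or.inr (Or.inl ⟨hg, orderOf_dvd_iff_pow_eq_one.1 ?_⟩))
    exact (Nat.Coprime.dvd_of_dvd_mul_left (Nat.coprime_two_right.2 hodd)
      (orderOf_dvd_of_pow_eq_one (D.hcentB z g ⟨hz1, orderOf_dvd_iff_pow_eq_one.1 (hzp ▸ h)⟩ hzc)))
  · refine Or.inr (Or.inr (Or.inr (Or.inl ⟨hg, orderOf_dvd_iff_pow_eq_one.1 ?_⟩)))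
    exact (Nat.Coprime.dvd_of_dvd_mul_left (Nat.coprime_two_right.2 hodd)
      (orderOf_dvd_of_pow_eq_one (D.hcentA z g ⟨hz1, orderOf_dvd_iff_pow_eq_one.1 (hzp ▸ h)⟩ hzc)))

/-- The inverters of a real element of order prime to `q (q² - 1)`. -/
theorem card_inverters_six {x : G} (hx : IsSix (3 * k * (9 * k ^ 2 - 1)) x) (hr : IsReal x) :
    (inverters x).card = Nat.card (centralizer ({x} : Set G)) := by
  obtain ⟨s, hs, hsx⟩ := hr
  have hr : IsReal x := ⟨s, hs, hsx⟩
  have hss := mul_self_of_two hs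
  have hx2 : ∀ {v : G}, orderOf v = 2 → v ≠ x := fun {v} hv e => by
    have := hx.2
    rw [← e, hv] at this
    exact absurd (Nat.eq_one_of_dvd_coprimes this dvd_rfl D.set_.two_dvd) (by norm_num)
  rw [Nat.card_eq_fintype_card, Fintype.card_subtype]
  refine Finset.card_bij (fun v _ => s * v) ?_ ?_ ?_
  · intro v hv
    obtain ⟨hv2, hvx, -⟩ := mem_inverters.1 hv
    simp only [Finset.mem_filter, Finset.mem_univ, true_and, mem_centralizer_singleton_iff]
    have hvv := mul_self_of_two hv2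
    calc s * v * x = s * (v * x * v) * v := by
          rw [mul_assoc s, mul_assoc s, mul_assoc (v * x), hvv, mul_one]
      _ = x * (s * v) := by
          rw [hvx]
          have h := congrArg Inv.inv hsx
          rw [mul_inv_rev, mul_inv_rev, inv_eq_of_mul_eq_one_right hss, inv_inv, ← mul_assoc] at h
          calc s * x⁻¹ * v = s * x⁻¹ * s * (s * v) := by rw [← mul_assoc, mul_assoc (s * x⁻¹), hss, mul_one]
            _ = x * (s * v) := by rw [h]
  · intro v _ v' _ h
    exact mul_left_cancel h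
  · intro c hc
    simp only [Finset.mem_filter, Finset.mem_univ, true_and] at hc
    refine ⟨s * c, mem_inverters.2 ⟨?_, ?_, ?_⟩, by rw [← mul_assoc, hss, one_mul]⟩
    · refine orderOf_eq_prime ?_ fun e => ?_
      · rw [pow_two, ← mul_assoc, D.set_.inverts hx hs hsx hc, inv_mul_cancel]
      · have : c = s := by
          rw [← inv_eq_of_mul_eq_one_right e, inv_eq_of_mul_eq_one_right hss]
        have h2 := D.set_.coprime_of_mem hx hr hc
        rw [this, hs] at h2
        exact absurd (Nat.eq_one_of_dvd_coprimes h2 dvd_rfl D.set_.two_dvd) (by norm_num)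
    · calc s * c * x * (s * c) = s * (c * x) * s * c := by group
        _ = s * (x * c) * s * c := by rw [mem_centralizer_singleton_iff.1 hc]
        _ = s * x * (s * s) * c * s * c := by rw [hss]; group
        _ = s * x * s * (s * c * s * c) := by group
        _ = x⁻¹ := by rw [hsx, D.set_.inverts hx hs hsx hc, inv_mul_cancel, mul_one]
    · refine hx2 (orderOf_eq_prime ?_ fun e => ?_)
      · rw [pow_two, ← mul_assoc, D.set_.inverts hx hs hsx hc, inv_mul_cancel]
      · have : c = s := by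
          rw [← inv_eq_of_mul_eq_one_right e, inv_eq_of_mul_eq_one_right hss]
        have h2 := D.set_.coprime_of_mem hx hr hc
        rw [this, hs] at h2
        exact absurd (Nat.eq_one_of_dvd_coprimes h2 dvd_rfl D.set_.two_dvd) (by norm_num)

/-- Every prime divisor of `q² - q + 1` is the order of a real element. -/
theorem exists_real {r : ℕ} (hr : r.Prime) (hrd : r ∣ 9 * k ^ 2 + 1 - 3 * k) :
    ∃ x : G, orderOf x = r ∧ IsReal x := by
  set q := 3 * k with hq
  set Φ := 9 * k ^ 2 + 1 - 3 * k with hΦ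
  have hk := D.set_.hk
  set I := Finset.univ.filter fun s : G => orderOf s = 2 with hI
  set W := Finset.univ.filter fun x : G => IsSix (3 * k * (9 * k ^ 2 - 1)) x ∧ IsReal x with hW
  set B₁ := Finset.univ.filter fun y : G => IsTor b y with hB₁
  set A₁ := Finset.univ.filter fun y : G => IsTor a y with hA₁
  set T := Finset.univ.filter fun g : G => Odd (orderOf g) ∧ 3 ∣ orderOf g with hT
  obtain ⟨B₂, hB₂, hB₂', hB₂n, hB₂1, hB₂w⟩ := D.sum_mul_elements D.odd_b (n₁ := 1) (w := 3 * k - 1)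
    D.honeB (fun y t hy ht hty => by
      rw [D.inverters_mul D.odd_b hy ht hty ?_, D.hinvB y hy]
      intro s hs hsy
      obtain ⟨t₀, ht₀⟩ := Finset.card_eq_one.1 (D.honeB y hy)
      have hss := mul_self_of_two hs
      have hsi : s⁻¹ = s := inv_eq_of_mul_eq_one_right hss
      have m1 : t = t₀ := Finset.mem_singleton.1 (ht₀ ▸ Finset.mem_filter.2 ⟨Finset.mem_univ _, ht, hty⟩)
      have m2 : s * t * s = t₀ := by
        refine Finset.mem_singleton.1 (ht₀ ▸ Finset.mem_filter.2 ⟨Finset.mem_univ _, ?_, ?_⟩)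
        · have := (MulAut.conj s).orderOf_eq t
          rw [MulAut.conj_apply, hsi] at this
          rw [this, ht]
        · have hy' : y = s * y⁻¹ * s := by
            rw [← hsy, show s * (s * y * s) * s = (s * s) * y * (s * s) by group, hss, one_mul, mul_one]
          show s * t * s * y = y * (s * t * s)
          calc s * t * s * y = s * t * s * (s * y⁻¹ * s) := by rw [← hy']
            _ = s * (t * y⁻¹) * s := by rw [show s * t * s * (s * y⁻¹ * s) = s * t * (s * s) * y⁻¹ * s by group, hss]; group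
            _ = s * (y⁻¹ * t) * s := by rw [hty.inv_right.eq]
            _ = s * y⁻¹ * (s * s) * t * s := by rw [hss]; group
            _ = s * y⁻¹ * s * (s * t * s) := by group
            _ = y * (s * t * s) := by rw [← hy']
      show s * t = t * s
      rw [← m1] at m2
      conv_rhs => rw [← m2, mul_assoc, hss, mul_one])
    D.hnumB
  obtain ⟨A₂, hA₂, hA₂', hA₂n, hA₂3, hA₂w⟩ := D.sum_mul_elements D.odd_a (n₁ := 3) (w := 3 * k + 1)
    D.hthreeA (fun y t hy ht hty => by
      rw [D.inverters_mul D.odd_a hy ht hty (fun s hs hsy => D.hfixA y s t hy hs hsy ht hty), D.hinvA y hy])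
    D.hnumA
  rw [← hB₁, one_mul] at hB₂1
  rw [← hA₁] at hA₂3
  -- the parts are disjoint
  have htor1 : ∀ {c : ℕ}, ¬ IsTor c (1 : G) := fun h => h.1 rfl
  have hmul2 : ∀ {c : ℕ} {t y : G}, Odd c → orderOf t = 2 → IsTor c y → Commute t y →
      Even (orderOf (t * y)) ∧ orderOf (t * y) ≠ 2 := by
    intro c t y hc ht hy hty
    rw [hty.orderOf_mul_eq_mul_orderOf_of_coprime (by rw [ht]; exact Nat.coprime_two_left.2 (D.odd_tor hc hy)), ht]
    refine ⟨even_two_mul _, fun h => hy.1 (orderOf_eq_one_iff.1 (by omega))⟩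
  have dis : ∀ {S S' : Finset G}, (∀ g ∈ S, g ∉ S') → Disjoint S S' := fun h => Finset.disjoint_left.2 h
  have d1 : Disjoint ({1} : Finset G) I := dis fun g hg h => by
    rw [Finset.mem_singleton.1 hg, hI, Finset.mem_filter, orderOf_one] at h
    exact absurd h.2 (by norm_num)
  have d2 : Disjoint ({1} ∪ I) B₁ := dis fun g hg h => by
    obtain ⟨-, hb'⟩ := Finset.mem_filter.1 h
    rcases Finset.mem_union.1 hg with h' | h'
    · exact hb'.1 (Finset.mem_singleton.1 h')
    · exact not_tor_inv D.odd_b (Finset.mem_filter.1 h').2 hb'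
  have d3 : Disjoint ({1} ∪ I ∪ B₁) A₁ := dis fun g hg h => by
    obtain ⟨-, ha'⟩ := Finset.mem_filter.1 h
    rcases Finset.mem_union.1 hg with h' | h'
    · rcases Finset.mem_union.1 h' with h'' | h''
      · exact ha'.1 (Finset.mem_singleton.1 h'')
      · exact not_tor_inv D.odd_a (Finset.mem_filter.1 h'').2 ha'
    · obtain ⟨-, hb'⟩ := Finset.mem_filter.1 h'
      exact ha'.1 (orderOf_eq_one_iff.1 (Nat.eq_one_of_dvd_coprimes D.coprime_ab
        (orderOf_dvd_of_pow_eq_one ha'.2) (orderOf_dvd_of_pow_eq_one hb'.2)))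
  have small : ∀ g ∈ {1} ∪ I ∪ B₁ ∪ A₁, Odd (orderOf g) ∨ orderOf g = 2 := by
    intro g hg
    simp only [Finset.mem_union, Finset.mem_singleton, hI, hB₁, hA₁, Finset.mem_filter, Finset.mem_univ,
      true_and] at hg
    rcases hg with ((rfl | h) | h) | h
    · exact Or.inl (by rw [orderOf_one]; exact odd_one)
    · exact Or.inr h
    · exact Or.inl (D.odd_tor D.odd_b h)
    · exact Or.inl (D.odd_tor D.odd_a h)
  have d4 : Disjoint ({1} ∪ I ∪ B₁ ∪ A₁) B₂ := dis fun g hg h => by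
    obtain ⟨t, y, ht, hy, hty, rfl⟩ := hB₂ g h
    obtain ⟨he, hne⟩ := hmul2 D.odd_b ht hy hty
    rcases small _ hg with h' | h'
    · exact Nat.not_odd_iff_even.2 he h'
    · exact hne h'
  have d5 : Disjoint ({1} ∪ I ∪ B₁ ∪ A₁ ∪ B₂) A₂ := dis fun g hg h => by
    obtain ⟨t, y, ht, hy, hty, rfl⟩ := hA₂ g h
    obtain ⟨he, hne⟩ := hmul2 D.odd_a ht hy hty
    rcases Finset.mem_union.1 hg with h' | h'
    · rcases small _ h' with h'' | h''
      · exact Nat.not_odd_iff_even.2 he h''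
      · exact hne h''
    · obtain ⟨t', y', ht', hy', hty', e⟩ := hB₂ _ h'
      obtain ⟨-, rfl⟩ := split_unique ht ht' (D.odd_tor D.odd_a hy) (D.odd_tor D.odd_b hy') hty hty' e
      exact hy.1 (orderOf_eq_one_iff.1 (Nat.eq_one_of_dvd_coprimes D.coprime_ab
        (orderOf_dvd_of_pow_eq_one hy.2) (orderOf_dvd_of_pow_eq_one hy'.2)))
  set U := {1} ∪ I ∪ B₁ ∪ A₁ ∪ B₂ ∪ A₂ with hU
  have d6 : Disjoint U W := dis fun g hg h => by
    obtain ⟨-, h6, -⟩ := Finset.mem_filter.1 h
    simp only [hU, Finset.mem_union, Finset.mem_singleton, hI, hB₁, hA₁, Finset.mem_filter, Finset.mem_univ,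
      true_and] at hg
    rcases hg with ((((rfl | hg) | hg) | hg) | hg) | hg
    · exact h6.1 rfl
    · exact absurd (Nat.eq_one_of_dvd_coprimes h6.2 dvd_rfl (hg ▸ D.set_.two_dvd)) (by rw [hg]; norm_num)
    · exact D.coprime_six D.b_dvd h6 hg
    · exact D.coprime_six D.a_dvd h6 hg
    · obtain ⟨t, y, ht, hy, hty, rfl⟩ := hB₂ _ hg
      have h2 := ((hmul2 D.odd_b ht hy hty).1).two_dvd
      exact absurd (Nat.eq_one_of_dvd_coprimes h6.2 h2 D.set_.two_dvd) (by norm_num)
    · obtain ⟨t, y, ht, hy, hty, rfl⟩ := hA₂ _ hg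
      have h2 := ((hmul2 D.odd_a ht hy hty).1).two_dvd
      exact absurd (Nat.eq_one_of_dvd_coprimes h6.2 h2 D.set_.two_dvd) (by norm_num)
  have hsplit : ∀ w : G → ℕ, ∑ g ∈ U ∪ W, w g =
      w 1 + ∑ g ∈ I, w g + ∑ g ∈ B₁, w g + ∑ g ∈ A₁, w g + ∑ g ∈ B₂, w g + ∑ g ∈ A₂, w g +
        ∑ g ∈ W, w g := by
    intro w
    rw [Finset.sum_union d6, hU, Finset.sum_union d5, Finset.sum_union d4, Finset.sum_union d3,
      Finset.sum_union d2, Finset.sum_union d1, Finset.sum_singleton]
  set R := ∑ x ∈ W, Nat.card (centralizer ({x} : Set G)) with hR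
  have hRw : ∑ g ∈ W, (inverters g).card = R := Finset.sum_congr rfl fun x hx =>
    D.card_inverters_six (Finset.mem_filter.1 hx).2.1 (Finset.mem_filter.1 hx).2.2
  have h1w : (inverters (1 : G)).card = I.card := by
    congr 1
    ext s
    simp only [mem_inverters, hI, Finset.mem_filter, Finset.mem_univ, true_and]
    refine ⟨fun h => h.1, fun h => ⟨h, by rw [mul_one, inv_one, mul_self_of_two h], fun e => ?_⟩⟩
    rw [e, orderOf_one] at h
    exact absurd h (by norm_num)
  have hIw : ∑ g ∈ I, (inverters g).card = I.card * (3 * k * (3 * k - 1)) := by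
    rw [Finset.sum_congr rfl fun u hu => D.hinvI u (Finset.mem_filter.1 hu).2, Finset.sum_const, smul_eq_mul]
  have hBw : ∑ g ∈ B₁, (inverters g).card = B₁.card * (3 * k - 1) := by
    rw [Finset.sum_congr rfl fun u hu => D.hinvB u (Finset.mem_filter.1 hu).2, Finset.sum_const, smul_eq_mul]
  have hAw : ∑ g ∈ A₁, (inverters g).card = A₁.card * (3 * k + 1) := by
    rw [Finset.sum_congr rfl fun u hu => D.hinvA u (Finset.mem_filter.1 hu).2, Finset.sum_const, smul_eq_mul]
  have hU' : ∑ g ∈ U ∪ W, (inverters g).card = I.card + I.card * (3 * k * (3 * k - 1)) +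
      B₁.card * (3 * k - 1) + A₁.card * (3 * k + 1) + (3 * k - 1) * B₂.card + (3 * k + 1) * A₂.card + R := by
    rw [hsplit, h1w, hIw, hBw, hAw, hB₂w, hA₂w, hRw]
  have hTw : ∑ g ∈ T, (inverters g).card ≤ I.card * ((3 * k + 1) * (9 * k ^ 2 - 1)) := by
    calc ∑ g ∈ T, (inverters g).card
        ≤ ∑ g ∈ T, (I.filter fun s => s * g * s = g⁻¹).card := by
          refine Finset.sum_le_sum fun g _ => Finset.card_le_card fun s hs => ?_
          obtain ⟨h1, h2, -⟩ := mem_inverters.1 hs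
          exact Finset.mem_filter.2 ⟨Finset.mem_filter.2 ⟨Finset.mem_univ _, h1⟩, h2⟩
      _ = ∑ s ∈ I, (T.filter fun g => s * g * s = g⁻¹).card := by
          simp only [Finset.card_filter]
          exact Finset.sum_comm
      _ ≤ ∑ _s ∈ I, (3 * k + 1) * (9 * k ^ 2 - 1) := by
          refine Finset.sum_le_sum fun s hs => le_trans (Finset.card_le_card fun g hg => ?_)
            (D.hthree s (Finset.mem_filter.1 hs).2)
          obtain ⟨hgT, hsg⟩ := Finset.mem_filter.1 hg
          exact Finset.mem_filter.2 ⟨Finset.mem_univ _, hsg, (Finset.mem_filter.1 hgT).2⟩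
      _ = _ := by rw [Finset.sum_const, smul_eq_mul]
  have hle : ∑ g ∈ U ∪ W, (inverters g).card ≤ I.card ^ 2 := by
    rw [← sum_inverters (G := G)]
    exact Finset.sum_le_sum_of_subset (Finset.subset_univ _)
  have hge : I.card ^ 2 ≤ ∑ g ∈ U ∪ W, (inverters g).card + ∑ g ∈ T, (inverters g).card := by
    rw [← sum_inverters (G := G), ← Finset.sum_subset (Finset.subset_univ (U ∪ W ∪ T)) ?_]
    · exact le_of_le_of_eq (Nat.le_add_right _ _) (Finset.sum_union_inter)
    intro g _ hg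
    rw [Finset.card_eq_zero, Finset.eq_empty_iff_forall_notMem]
    intro s hs
    obtain ⟨hs2, hsg, -⟩ := mem_inverters.1 hs
    apply hg
    simp only [hU, hI, hB₁, hA₁, hW, hT, Finset.mem_union, Finset.mem_singleton, Finset.mem_filter,
      Finset.mem_univ, true_and]
    rcases D.cases_inverted hs2 hsg with
      h | h | h | h | ⟨t, y, ht, hy, hty, rfl⟩ | ⟨t, y, ht, hy, hty, rfl⟩ | h | h
    · exact Or.inl (Or.inl (Or.inl (Or.inl (Or.inl (Or.inl (Or.inl h))))))
    · exact Or.inl (Or.inl (Or.inl (Or.inl (Or.inl (Or.inl (Or.inr h))))))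
    · exact Or.inl (Or.inl (Or.inl (Or.inl (Or.inl (Or.inr h)))))
    · exact Or.inl (Or.inl (Or.inl (Or.inl (Or.inr h))))
    · exact Or.inl (Or.inl (Or.inl (Or.inr (hB₂' t y ht hy hty))))
    · exact Or.inl (Or.inl (Or.inr (hA₂' t y ht hy hty)))
    · exact Or.inl (Or.inr h)
    · exact Or.inr h
  have hcard : (U ∪ W).card ≤ Nat.card G := by
    rw [Nat.card_eq_fintype_card]; exact Finset.card_le_univ _
  have hcU : (U ∪ W).card = 1 + I.card + B₁.card + A₁.card + B₂.card + A₂.card + W.card := by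
    have := hsplit fun _ => 1
    simpa using this
  -- arithmetic
  have hG : Nat.card G = I.card * (3 * k * (9 * k ^ 2 - 1)) := by
    rw [D.set_.hcard, D.hinv]; ring
  obtain ⟨hb, ha⟩ := D.hb, D.ha
  have hb1 : 1 ≤ b := by omega
  have ha1 : 1 ≤ a := by omega
  have k1 : 1 ≤ 3 * k := by omega
  have kk : 1 ≤ 9 * k ^ 2 := by nlinarith
  have hPz : 3 * k ≤ 9 * k ^ 2 + 1 := by nlinarith
  have hn : (I.card : ℤ) = 9 * (k : ℤ) ^ 2 * (9 * (k : ℤ) ^ 2 + 1 - 3 * k) := by
    rw [hI, D.hinv]; push_cast [Nat.cast_sub hPz]; ring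
  have eB : 2 * (B₂.card : ℤ) = (I.card : ℤ) * (3 * k * (3 * k + 1) * ((b : ℤ) - 1)) := by
    have : ((2 * B₂.card : ℕ) : ℤ) = ((I.card * (3 * k * (3 * k + 1) * (b - 1)) : ℕ) : ℤ) := by rw [hB₂n]
    push_cast [Nat.cast_sub hb1] at this
    exact this
  have eA : 2 * (A₂.card : ℤ) = (I.card : ℤ) * (3 * k * (3 * k - 1) * ((a : ℤ) - 1)) := by
    have : ((2 * A₂.card : ℕ) : ℤ) = ((I.card * (3 * k * (3 * k - 1) * (a - 1)) : ℕ) : ℤ) := by rw [hA₂n]
    push_cast [Nat.cast_sub ha1, Nat.cast_sub k1] at this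
    exact this
  have eB1 : (B₂.card : ℤ) = B₁.card := by rw [hB₂1]
  have eA1 : (A₂.card : ℤ) = 3 * A₁.card := by rw [hA₂3]; push_cast; ring
  have hbz : 2 * (b : ℤ) + 1 = 3 * k := by exact_mod_cast hb
  have haz : 4 * (a : ℤ) = 3 * k + 1 := by exact_mod_cast ha
  have hkz : (9 : ℤ) ≤ k := by exact_mod_cast hk
  have hGz : (Nat.card G : ℤ) = I.card * (3 * k * (9 * (k : ℤ) ^ 2 - 1)) := by
    rw [hG]; push_cast [Nat.cast_sub kk]; ring
  have hn0 : 0 < (I.card : ℤ) := by rw [hn]; nlinarith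
  set X : ℤ := (I.card : ℤ) + I.card * (3 * k * (3 * k - 1)) +
    B₁.card * (3 * k - 1) + A₁.card * (3 * k + 1) + (3 * k - 1) * B₂.card + (3 * k + 1) * A₂.card with hX
  have hXeq : X + (k : ℤ) * Nat.card G + (I.card : ℤ) * ((3 * k + 1) * (9 * (k : ℤ) ^ 2 - 1)) =
      (I.card : ℤ) ^ 2 := by
    have e1 : 2 * X = 2 * (I.card : ℤ) * (1 + 3 * k * (3 * k - 1)) +
        2 * ((I.card : ℤ) * (3 * k * (3 * k + 1) * ((b : ℤ) - 1))) * (3 * k - 1) +
        (I.card : ℤ) * (3 * k * (3 * k - 1) * ((a : ℤ) - 1)) * (3 * k + 1) +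
        2 * (A₁.card : ℤ) * (3 * k + 1) := by
      rw [hX]; linear_combination (3 * (k : ℤ) - 1) * 2 * eB + (3 * (k : ℤ) + 1) * eA -
        2 * (3 * (k : ℤ) - 1) * eB1
    have e2 : 6 * (A₁.card : ℤ) = (I.card : ℤ) * (3 * k * (3 * k - 1) * ((a : ℤ) - 1)) := by
      linear_combination eA - 2 * eA1
    rw [hGz]
    have e3 : 6 * X = 6 * (I.card : ℤ) * (1 + 3 * k * (3 * k - 1)) +
        (I.card : ℤ) * (3 * k) * ((3 * k - 1) * (3 * k + 1)) *
          (6 * ((b : ℤ) - 1) + 4 * ((a : ℤ) - 1)) := by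
      linear_combination 3 * e1 + (3 * (k : ℤ) + 1) * e2
    have hb' : (b : ℤ) * 6 + 4 * a = 12 * k - 2 := by linarith
    nlinarith [e3, hn, hb']
  have hlo : k * Nat.card G ≤ R := by
    have h : ((I.card ^ 2 : ℕ) : ℤ) ≤ ((I.card + I.card * (3 * k * (3 * k - 1)) +
      B₁.card * (3 * k - 1) + A₁.card * (3 * k + 1) + (3 * k - 1) * B₂.card + (3 * k + 1) * A₂.card + R +
      I.card * ((3 * k + 1) * (9 * k ^ 2 - 1)) : ℕ) : ℤ) := by
      exact_mod_cast hge.trans (Nat.add_le_add hU'.le hTw)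
    push_cast [Nat.cast_sub k1, Nat.cast_sub kk] at h
    have : ((k * Nat.card G : ℕ) : ℤ) ≤ (R : ℤ) := by push_cast; linarith
    exact_mod_cast this
  have hhi : R < (k + 2) * Nat.card G := by
    have h : ((I.card + I.card * (3 * k * (3 * k - 1)) +
      B₁.card * (3 * k - 1) + A₁.card * (3 * k + 1) + (3 * k - 1) * B₂.card + (3 * k + 1) * A₂.card + R
        : ℕ) : ℤ) ≤ ((I.card ^ 2 : ℕ) : ℤ) := by exact_mod_cast hU'.ge.trans hle
    push_cast [Nat.cast_sub k1] at h
    have hT2 : (I.card : ℤ) * ((3 * k + 1) * (9 * (k : ℤ) ^ 2 - 1)) < 2 * Nat.card G := by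
      rw [hGz, show (2 : ℤ) * (I.card * (3 * k * (9 * (k : ℤ) ^ 2 - 1))) =
        I.card * ((6 * k) * (9 * (k : ℤ) ^ 2 - 1)) by ring]
      refine mul_lt_mul_of_pos_left (mul_lt_mul_of_pos_right (by linarith) (by nlinarith)) hn0
    have : (R : ℤ) < (((k + 2) * Nat.card G : ℕ) : ℤ) := by push_cast; linarith
    exact_mod_cast this
  have hup : 3 * k * W.card ≤ (k + 2) * Nat.card G := by
    have h : ((1 + I.card + B₁.card + A₁.card + B₂.card + A₂.card + W.card : ℕ) : ℤ) ≤ Nat.card G := by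
      exact_mod_cast hcU ▸ hcard
    push_cast at h
    rw [hGz] at h
    have e2 : 3 * ((A₁.card : ℤ) + A₂.card) * 2 = 4 * ((I.card : ℤ) * (3 * k * (3 * k - 1) * ((a : ℤ) - 1))) := by
      linear_combination 4 * eA - 2 * eA1
    have hW6 : 6 * (W.card : ℤ) ≤ (I.card : ℤ) * (6 * (3 * k * (9 * (k : ℤ) ^ 2 - 1)) - 6 -
        6 * (3 * k * (3 * k + 1) * ((b : ℤ) - 1)) - 4 * (3 * k * (3 * k - 1) * ((a : ℤ) - 1))) := by
      nlinarith [h, e2, eB, eB1]
    have hz : 3 * (k : ℤ) * W.card ≤ ((k : ℤ) + 2) * Nat.card G := by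
      rw [hGz]
      have h2 : 6 * (3 * k * (9 * (k : ℤ) ^ 2 - 1)) - 6 -
          6 * (3 * k * (3 * k + 1) * ((b : ℤ) - 1)) - 4 * (3 * k * (3 * k - 1) * ((a : ℤ) - 1)) =
          2 * (3 * (k : ℤ)) ^ 3 + 10 * (3 * (k : ℤ)) ^ 2 - 6 := by
        have hb' : 2 * ((b : ℤ) - 1) = 3 * k - 3 := by linarith
        have ha' : 4 * ((a : ℤ) - 1) = 3 * k - 3 := by linarith
        linear_combination (-9 * (k : ℤ) * (3 * k + 1)) * hb' - (3 * (k : ℤ) * (3 * k - 1)) * ha'
      rw [h2] at hW6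
      have h3 : 3 * (k : ℤ) * (2 * (3 * (k : ℤ)) ^ 3 + 10 * (3 * (k : ℤ)) ^ 2 - 6) ≤
          6 * (((k : ℤ) + 2) * (3 * k * (9 * (k : ℤ) ^ 2 - 1))) := by nlinarith
      nlinarith [mul_le_mul_of_nonneg_left hW6 (by positivity : (0 : ℤ) ≤ 3 * k),
        mul_le_mul_of_nonneg_left h3 hn0.le]
    exact_mod_cast (show ((3 * k * W.card : ℕ) : ℤ) ≤ (((k + 2) * Nat.card G : ℕ) : ℤ) by push_cast; exact hz)
  exact D.set_.exists_real hup hlo hhi hr hrd

end Counts

end CfsgLib.ReeReal
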