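import Cfsg.Agent.Lib.ReeOrder.Local.Frame
import Cfsg.Agent.Lib.ReeOrder.Frames
import Cfsg.Agent.Lib.ReeReal.CC

/-!
The local structure of a group of Ree order at its involutions, odd tori, second tori and elements of
order three, from the torus centralizers and the trivial intersection Sylow 3-subgroups.
-/

set_option autoImplicit false
set_option linter.unusedSectionVars false
set_option linter.style.haveILetI false

namespace CfsgLib.ReeOrder.Conf

open Cfsg CfsgLib.ReeType Subgroup CfsgLib.ReeOrder.Local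

universe u

variable {G : Type u} [Group G] [Fintype G]
variable {F : Type} [Field F] [Fintype F] [DecidableEq F]
variable {t : G}

/-- The data of a group of Ree order. -/
structure ReeLocal (K : Conf t F) (m : ℕ) : Prop where
  one_le : 1 ≤ m
  card_F : Fintype.card F = 3 ^ (2 * m + 1)
  card_G : Nat.card G = Fintype.card F ^ 3 * (Fintype.card F ^ 3 + 1) * (Fintype.card F - 1)
  torus : K.TorusCentralizers
  atype : K.ATypeData
  ti : ∀ P Q : Sylow 3 G, ∀ x : G, x ≠ 1 → x ∈ P → x ∈ Q → P = Q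
  card_normalizer : ∀ P : Sylow 3 G, Nat.card (normalizer ((P : Subgroup G) : Set G)) =
    Fintype.card F ^ 3 * (Fintype.card F - 1)

/-- A third of `q`. -/
def third (m : ℕ) : ℕ := 3 ^ (2 * m)

/-- The torus centralizers move to the other involutions. -/
theorem torus_of_isConj {K : Conf t F} (hT : K.TorusCentralizers) {u : G} (K' : Conf u F) :
    K'.TorusCentralizers := by
  obtain ⟨h, hh⟩ := isConj_iff.1 (K.isConj_involution K'.orderOf_t)
  intro x hx g hg
  obtain ⟨x1, xu, xo⟩ := hx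
  set φ := MulAut.conj h⁻¹ with hφ
  have hu : φ u = t := by rw [hφ, MulAut.conj_apply, ← hh]; group
  have h1 : Commute (φ x) t := hu ▸ (show Commute (φ x) (φ u) from xu.map φ.toMonoidHom)
  have hx' : K.IsBElt (φ x) :=
    ⟨fun e => x1 (φ.injective (e.trans (map_one φ).symm)), h1, by rw [φ.orderOf_eq]; exact xo⟩
  obtain ⟨g1, g2⟩ := hT (φ x) hx' (φ g) (hg.map φ.toMonoidHom)
  refine ⟨?_, φ.injective ?_⟩
  · have := g1.map φ.symm.toMonoidHom
    simpa [← hu] using this
  · rw [map_pow, map_one]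
    exact g2

namespace ReeLocal

variable {K : Conf t F} {m : ℕ} (D : K.ReeLocal m)
include D

theorem nine_le : 9 ≤ third m := by
  calc 9 = 3 ^ 2 := by norm_num
    _ ≤ 3 ^ (2 * m) := Nat.pow_le_pow_right (by norm_num) (by have := D.one_le; omega)

theorem q_third : Fintype.card F = 3 * third m := by rw [D.card_F, third, pow_succ']

theorem q_eight : Fintype.card F % 8 = 3 := by
  rw [D.card_F, pow_succ, pow_mul, Nat.mul_mod, Nat.pow_mod]; norm_num

theorem charP : CharP F 3 := by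
  obtain ⟨p, hp⟩ := CharP.exists F
  have hpp : p.Prime := CharP.char_is_prime F p
  have hd : p ∣ 3 ^ (2 * m + 1) :=
    D.card_F ▸ (CharP.cast_eq_zero_iff F p _).1 (Nat.cast_card_eq_zero F)
  exact (Nat.prime_dvd_prime_iff_eq hpp Nat.prime_three).1 (hpp.dvd_of_dvd_pow hd) ▸ hp

theorem b_eq : 2 * oddTorus K.q + 1 = 3 * third m := by
  rw [← D.q_third]
  rcases sq_cases K.q_mod with ⟨-, -, h1, -⟩ | ⟨h, -, -, -⟩
  · exact h1
  · exact absurd D.q_eight (by omega)

theorem a_eq : 4 * coTorus K.q = 3 * third m + 1 := by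
  rw [← D.q_third]
  rcases sq_cases K.q_mod with ⟨-, -, -, h1⟩ | ⟨h, -, -, -⟩
  · exact h1
  · exact absurd D.q_eight (by omega)

/-- The order in terms of `k`. -/
theorem card_G' : Nat.card G =
    (3 * third m) ^ 3 * (9 * third m ^ 2 - 1) * (9 * third m ^ 2 + 1 - 3 * third m) := by
  have h9 := D.nine_le
  have h1 : 1 ≤ 9 * third m ^ 2 := by nlinarith
  have h2 : 3 * third m ≤ 9 * third m ^ 2 + 1 := by nlinarith
  rw [D.card_G, D.q_third]
  zify [h1, h2, show 1 ≤ 3 * third m by omega]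
  ring

theorem card_cent' {u : G} (hu : orderOf u = 2) :
    Nat.card (centralizer ({u} : Set G)) = 3 * third m * (9 * third m ^ 2 - 1) := by
  obtain ⟨K'⟩ := K.conf_of_involution hu
  have h1 : 1 ≤ 9 * third m ^ 2 := by nlinarith [D.nine_le]
  have hb : (2 : ℤ) * oddTorus K.q + 1 = 3 * third m := by exact_mod_cast D.b_eq
  have ha : (4 : ℤ) * coTorus K.q = 3 * third m + 1 := by exact_mod_cast D.a_eq
  have hq : (K.q : ℤ) = 3 * third m := by exact_mod_cast D.q_third
  rw [K'.card_cent]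
  show 8 * (K.q * (coTorus K.q * oddTorus K.q)) = _
  zify [h1]
  rw [hq]
  linear_combination (3 * (third m : ℤ) * (4 * (coTorus K.q : ℤ))) * hb +
    (3 * (third m : ℤ) * (3 * third m - 1)) * ha

theorem cent_dvd {u g : G} (hu : orderOf u = 2) (hg : Commute g u) :
    orderOf g ∣ 3 * third m * (9 * third m ^ 2 - 1) :=
  D.card_cent' hu ▸ Subgroup.orderOf_dvd_natCard _ (mem_centralizer_singleton_iff.2 hg.eq)

theorem b_dvd : oddTorus K.q ∣ 9 * third m ^ 2 - 1 := by
  refine ⟨2 * (3 * third m + 1), ?_⟩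
  have h1 : 1 ≤ 9 * third m ^ 2 := by nlinarith [D.nine_le]
  zify [h1]
  have hb : (2 : ℤ) * oddTorus K.q + 1 = 3 * third m := by exact_mod_cast D.b_eq
  linear_combination (-(3 * (third m : ℤ) + 1)) * hb

theorem a_dvd : coTorus K.q ∣ 9 * third m ^ 2 - 1 := by
  refine ⟨4 * (3 * third m - 1), ?_⟩
  have h1 : 1 ≤ 9 * third m ^ 2 := by nlinarith [D.nine_le]
  zify [h1, show 1 ≤ 3 * third m by have := D.nine_le; omega]
  have ha : (4 : ℤ) * coTorus K.q = 3 * third m + 1 := by exact_mod_cast D.a_eq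
  linear_combination (-(3 * (third m : ℤ) - 1)) * ha

/-- Elements commuting with an element of a Sylow 3-subgroup normalize it. -/
theorem mem_normalizer_of_commute {P : Sylow 3 G} {x g : G} (hxP : x ∈ P) (x1 : x ≠ 1)
    (hg : Commute g x) : g ∈ normalizer ((P : Subgroup G) : Set G) :=
  Sylow.smul_eq_iff_mem_normalizer.1
    (D.ti (g • P) P x x1 ⟨x, hxP, mul_inv_eq_iff_eq_mul.2 hg.eq⟩ hxP)

/-- An element commuting with one of order three has order dividing `q³ (q - 1)`. -/
theorem three_cent {x g : G} (hx : orderOf x = 3) (hg : Commute g x) :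
    orderOf g ∣ (3 * third m) ^ 3 * (3 * third m - 1) := by
  haveI := Fact.mk Nat.prime_three
  obtain ⟨P, hP⟩ := (IsPGroup.of_card (n := 1)
    (show Nat.card (zpowers x) = 3 ^ 1 by rw [Nat.card_zpowers, hx, pow_one])).exists_le_sylow
  have := Subgroup.orderOf_dvd_natCard _ (D.mem_normalizer_of_commute (hP (mem_zpowers x))
    (fun e => by rw [e, orderOf_one] at hx; omega) hg)
  rwa [D.card_normalizer, D.q_third] at this

/-- No element of order three commutes with a non-trivial element of a second torus. -/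
theorem not_three_commute_a {x z : G} (hx : orderOf x = 3) (z1 : z ≠ 1)
    (hz : orderOf z ∣ coTorus K.q) : ¬ Commute z x := by
  intro h
  refine z1 (orderOf_eq_one_iff.1 (Nat.eq_one_of_dvd_coprimes ?_ hz (D.three_cent hx h)))
  refine Nat.coprime_of_dvd fun p hp ha hb => ?_
  have hodd : p ≠ 2 := fun e => Nat.not_even_iff_odd.2 K.odd_a (even_iff_two_dvd.2 (e ▸ ha))
  have hq : ¬ p ∣ 3 * third m := fun h3 =>
    hp.one_lt.ne' (Nat.dvd_one.1 ((Nat.dvd_add_right h3).1 (D.a_eq ▸ ha.mul_left 4)))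
  rcases hp.dvd_mul.1 hb with h' | h'
  · exact hq (hp.dvd_of_dvd_pow h')
  · have h4 : p ∣ 3 * third m + 1 := D.a_eq ▸ ha.mul_left 4
    have : p ∣ 2 := by
      have h5 := Nat.dvd_sub h4 h'
      rwa [show 3 * third m + 1 - (3 * third m - 1) = 2 by have := D.nine_le; omega] at h5
    exact hodd ((Nat.prime_dvd_prime_iff_eq hp Nat.prime_two).1 this)

/-- Elements of prime order dividing a torus order commute with an involution. -/
theorem exists_involution_commute {z : G} (hz : (orderOf z).Prime)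
    (hd : orderOf z ∣ oddTorus K.q ∨ orderOf z ∣ coTorus K.q) :
    ∃ u : G, orderOf u = 2 ∧ Commute z u := by
  haveI := Fact.mk hz
  set p := orderOf z with hp
  set C := centralizer ({t} : Set G)
  have hp9 : p ∣ 9 * third m ^ 2 - 1 := hd.elim (fun h => h.trans D.b_dvd) fun h => h.trans D.a_dvd
  have h1 : 1 ≤ 9 * third m ^ 2 := by nlinarith [D.nine_le]
  have hp2 : p ≠ 2 := fun e => by
    rcases hd with h | h
    · exact Nat.not_even_iff_odd.2 K.odd_b (even_iff_two_dvd.2 (e ▸ h))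
    · exact Nat.not_even_iff_odd.2 K.odd_a (even_iff_two_dvd.2 (e ▸ h))
  have hidx : ¬ p ∣ C.index := by
    intro h
    have hC : 0 < Nat.card C := Nat.card_pos
    have he : C.index = (3 * third m) ^ 2 * (9 * third m ^ 2 + 1 - 3 * third m) := by
      refine Nat.eq_of_mul_eq_mul_left hC ?_
      rw [C.card_mul_index, D.card_G', D.card_cent' K.orderOf_t]; ring
    rw [he] at h
    have hk : ¬ p ∣ 3 * third m := fun h3 => by
      have : p ∣ 9 * third m ^ 2 := by
        obtain ⟨c, hc⟩ := h3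
        exact ⟨c * (3 * third m), by rw [← mul_assoc, ← hc]; ring⟩
      have h2 := Nat.dvd_sub this hp9
      rw [Nat.sub_sub_self h1] at h2
      exact hz.one_lt.ne' (Nat.dvd_one.1 h2)
    rcases hz.dvd_mul.1 h with h | h
    · exact hk (hz.dvd_of_dvd_pow h)
    · have e1 : ((9 * third m ^ 2 + 1 - 3 * third m : ℕ) : ZMod p) = 0 :=
        (ZMod.natCast_eq_zero_iff _ _).2 h
      have e2 : ((9 * third m ^ 2 - 1 : ℕ) : ZMod p) = 0 := (ZMod.natCast_eq_zero_iff _ _).2 hp9
      rw [Nat.cast_sub (by nlinarith)] at e1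
      rw [Nat.cast_sub h1] at e2
      push_cast at e1 e2
      have e3 : (3 : ZMod p) = 0 := by
        linear_combination (2 + 3 * (third m : ZMod p)) * (e1 - e2) + e2
      refine hk (Dvd.dvd.mul_right ((ZMod.natCast_eq_zero_iff 3 p).1 ?_) _)
      exact_mod_cast e3
  obtain ⟨Q, hQ⟩ := (IsPGroup.of_card (n := 1)
    (show Nat.card (zpowers z) = p ^ 1 by rw [Nat.card_zpowers, pow_one])).exists_le_sylow
  obtain ⟨S⟩ := Sylow.nonempty (p := p) (G := C)
  have hcard : Nat.card ((S : Subgroup C).map C.subtype) = p ^ (Nat.card G).factorization p := by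
    rw [card_map_of_injective C.subtype_injective, S.card_eq_multiplicity, ← C.card_mul_index,
      Nat.factorization_mul Nat.card_pos.ne' Subgroup.index_ne_zero_of_finite, Finsupp.add_apply,
      Nat.factorization_eq_zero_of_not_dvd hidx, add_zero]
  obtain ⟨g, hg⟩ := MulAction.exists_smul_eq G Q (Sylow.ofCard _ hcard)
  have hgz : g * z * g⁻¹ ∈ (Sylow.ofCard _ hcard : Sylow p G) := by
    rw [← hg]; exact ⟨z, hQ (mem_zpowers z), rfl⟩
  have hgC : g * z * g⁻¹ ∈ C := by
    have h' : g * z * g⁻¹ ∈ (S : Subgroup C).map C.subtype := hgz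
    obtain ⟨y, -, hy⟩ := h'
    rw [← hy]; exact y.2
  refine ⟨g⁻¹ * t * g, ?_, ?_⟩
  · have := (MulAut.conj g⁻¹).orderOf_eq t
    rw [MulAut.conj_apply, inv_inv] at this
    rw [this, K.orderOf_t]
  · have := (show Commute (g * z * g⁻¹) t from mem_centralizer_singleton_iff.1 hgC).map
      (MulAut.conj g⁻¹).toMonoidHom
    simpa [mul_assoc] using this

omit D in
theorem exists_prime_power {y : G} {c : ℕ} (y1 : y ≠ 1) (hy : orderOf y ∣ c) :
    ∃ z : G, (orderOf z).Prime ∧ orderOf z ∣ c ∧ ∀ g, Commute g y → Commute g z := by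
  obtain ⟨p, hp, hpd⟩ := Nat.exists_prime_and_dvd (fun e => y1 (orderOf_eq_one_iff.1 e))
  refine ⟨y ^ (orderOf y / p), ?_, ?_, fun g hg => hg.pow_right _⟩ <;>
    rw [orderOf_pow_orderOf_div (orderOf_pos y).ne' hpd]
  · exact hp
  · exact hpd.trans hy

/-- Non-trivial elements of odd tori. -/
theorem torB {y : G} (y1 : y ≠ 1) (hy : orderOf y ∣ oddTorus K.q) :
    ∃ (u : G) (K' : Conf u F), K'.IsBElt y ∧
      ∀ g, Commute g y → Commute g u ∧ g ^ (2 * oddTorus K.q) = 1 := by
  obtain ⟨z, hzp, hzd, hzc⟩ := exists_prime_power y1 hy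
  obtain ⟨u, hu, hzu⟩ := D.exists_involution_commute hzp (Or.inl hzd)
  obtain ⟨K'⟩ := K.conf_of_involution hu
  have hT := torus_of_isConj D.torus K'
  have z1 : z ≠ 1 := fun e => hzp.ne_one (by rw [e, orderOf_one])
  have hyu := (hT z ⟨z1, hzu, hzd⟩ y (hzc y (Commute.refl y))).1
  exact ⟨u, K', ⟨y1, hyu, hy⟩, fun g hg => hT y ⟨y1, hyu, hy⟩ g hg⟩

/-- Non-trivial elements of the second tori. -/
theorem torA {y : G} (y1 : y ≠ 1) (hy : orderOf y ∣ coTorus K.q) :
    ∃ v w c r : G, K.Pair v w c r ∧ y ∈ zpowers c ∧ ∀ g, Commute g y →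
      ∃ (j : ℕ) (x : G), (x = 1 ∨ x = v ∨ x = w ∨ x = v * w) ∧ g = c ^ j * x := by
  obtain ⟨z, hzp, hzd, hzc⟩ := exists_prime_power y1 hy
  obtain ⟨v, hv, hzv⟩ := D.exists_involution_commute hzp (Or.inr hzd)
  obtain ⟨K'⟩ := K.conf_of_involution hv
  have z1 : z ≠ 1 := fun e => hzp.ne_one (by rw [e, orderOf_one])
  obtain ⟨w, hw', hzw⟩ : ∃ w, K.IsFour v w ∧ Commute z w := by
    obtain ⟨c', w, -, -, hf, -, -, hall⟩ := K'.aElt_four z1 hzv hzd
    exact ⟨w, hf, (hall z hzv (Commute.refl z)).1⟩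
  obtain ⟨c, r, P⟩ := K.exists_pair hw'
  -- centralizing `z` implies centralizing the four group
  have hcube : ∀ g, Commute g z → ¬ 3 ∣ orderOf g := fun g hg h3 => by
    refine D.not_three_commute_a (x := g ^ (orderOf g / 3)) ?_ z1 hzd (hg.symm.pow_right _)
    exact orderOf_pow_orderOf_div (orderOf_pos g).ne' h3
  have hfix : ∀ g, Commute g z → Commute g v ∧ Commute g w := by
    intro g hg
    obtain ⟨h1, h2⟩ := D.atype v w z hw' z1 hzv hzw hzd g hg
    have hk : g * (v * w) * g⁻¹ = g * v * g⁻¹ * (g * w * g⁻¹) := by group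
    have hvw := hw'.2.2.1
    obtain ⟨hv2, hw2⟩ := hw'.sq
    have hkm := K.isFour_mul hw'
    have hkm' := K.isFour_mul (K.isFour_swap hw')
    have e1 : v * w * w = v := by rw [mul_assoc, hw2, mul_one]
    have e2 : w * (v * w) = v := by rw [← mul_assoc, ← hvw.eq, e1]
    have e3 : v * (v * w) = w := by rw [← mul_assoc, hv2, one_mul]
    have e4 : v * w * v = w := by rw [hvw.eq, mul_assoc, hv2, mul_one]
    -- three steps fix everything
    suffices h3 : g ^ 3 * v * (g ^ 3)⁻¹ = v ∧ g ^ 3 * w * (g ^ 3)⁻¹ = w by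
      have hmem : g ∈ zpowers (g ^ 3) := by
        have hcop : (orderOf g).Coprime 3 := by
          rw [Nat.coprime_comm, Nat.prime_three.coprime_iff_not_dvd]; exact hcube g hg
        obtain ⟨n, hn⟩ := exists_pow_eq_self_of_coprime hcop.symm
        exact ⟨n, by simpa using hn⟩
      obtain ⟨i, hi⟩ := hmem
      exact ⟨hi ▸ (show Commute (g ^ 3) v from mul_inv_eq_iff_eq_mul.1 h3.1).zpow_left i,
        hi ▸ (show Commute (g ^ 3) w from mul_inv_eq_iff_eq_mul.1 h3.2).zpow_left i⟩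
    have h3' : ∀ a b c d : G, g * a * g⁻¹ = b → g * b * g⁻¹ = c → g * c * g⁻¹ = d →
        g ^ 3 * a * (g ^ 3)⁻¹ = d := by
      intro a b c d ha hb hc
      rw [← hc, ← hb, ← ha]; simp [pow_succ, mul_assoc]
    have hinj : g * v * g⁻¹ ≠ g * w * g⁻¹ := fun e => hw'.2.2.2 (mul_left_cancel (mul_right_cancel e))
    simp only [Set.mem_insert_iff, Set.mem_singleton_iff] at h1 h2
    rcases h1 with h1 | h1 | h1 <;> rcases h2 with h2 | h2 | h2 <;>
      rw [h1, h2] at hk <;>
      (first | exact absurd (h1.trans h2.symm) hinj | skip)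
    · exact ⟨h3' _ _ _ _ h1 h1 h1, h3' _ _ _ _ h2 h2 h2⟩
    · rw [e3] at hk
      rw [← hvw.eq] at hkm'
      exact (K.not_swap hkm' h2 hk).elim
    · exact (K.not_swap hw' h1 h2).elim
    · rw [e2] at hk
      exact ⟨h3' _ _ _ _ h1 h2 hk, h3' _ _ _ _ h2 hk h1⟩
    · rw [e4] at hk
      exact ⟨h3' _ _ _ _ h1 hk h2, h3' _ _ _ _ h2 h1 hk⟩
    · rw [e1] at hk
      exact (K.not_swap hkm h1 hk).elim
  have hyc := hfix y (hzc y (Commute.refl y))
  have hyc' : y ∈ zpowers c := P.odd_mem hyc.1 hyc.2 (K.odd_a.of_dvd_nat hy)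
  refine ⟨v, w, c, r, P, hyc', fun g hg => ?_⟩
  obtain ⟨hgv, hgw⟩ := hfix g (hzc g hg)
  obtain ⟨j, x, hx, h | h⟩ := P.gen g hgv hgw
  · exact ⟨j, x, hx, h⟩
  · exfalso
    have hi := (P.cross hyc' hx h).2
    rw [hg.eq, mul_inv_cancel_right] at hi
    exact y1 (Local.eq_one_of_odd (K.odd_a.of_dvd_nat hy) (eq_inv_iff_mul_eq_one.1 hi))

end ReeLocal

end CfsgLib.ReeOrder.Conf
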